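import Mathlib.LinearAlgebra.Matrix.Adjugate
import Mathlib.LinearAlgebra.Matrix.Determinant.Basic
import Mathlib.Data.Finset.Sort
import Mathlib.Data.List.OfFn
import Mathlib.Tactic.LinearCombination
import Mathlib.Tactic.Ring

/-!
# The algebra of the Eagon–Northcott complex

Contraction and wedge operators on functions on subsets, and the homotopy showing that the maximal minors kill
the homology of the Eagon–Northcott complex of a matrix.
-/

set_option autoImplicit false

open Finset

namespace Groth.Agent.CAlgH3.EN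

variable {R : Type*} [CommRing R] {n m : ℕ}

/-- The sign of `j` relative to `K`. -/
def sgn (j : Fin n) (K : Finset (Fin n)) : ℤ := (-1) ^ (K.filter (· < j)).card

theorem sgn_mul_self (j : Fin n) (K : Finset (Fin n)) : sgn j K * sgn j K = 1 := by
  simp [sgn, ← mul_pow]

theorem sgn_insert {j l : Fin n} {K : Finset (Fin n)} (hl : l ∉ K) :
    sgn j (insert l K) = (if l < j then -1 else 1) * sgn j K := by
  rcases lt_or_ge l j with h | h
  · rw [sgn, Finset.filter_insert, if_pos h, card_insert_of_notMem (by simp [hl]), pow_succ, if_pos h, sgn]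
    ring
  · rw [sgn, Finset.filter_insert, if_neg (not_lt.2 h), if_neg (not_lt.2 h), sgn, one_mul]

theorem sgn_insert_self {j : Fin n} {K : Finset (Fin n)} (hj : j ∉ K) : sgn j (insert j K) = sgn j K := by
  rw [sgn_insert hj, if_neg (lt_irrefl j), one_mul]

theorem sgn_comm {j l : Fin n} {K : Finset (Fin n)} (h : j ≠ l) (hj : j ∉ K) (hl : l ∉ K) :
    sgn j K * sgn l (insert j K) + sgn l K * sgn j (insert l K) = 0 := by
  rw [sgn_insert hj, sgn_insert hl]
  rcases lt_or_gt_of_ne h with h' | h'
  · rw [if_pos h', if_neg (not_lt.2 h'.le)]; ring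
  · rw [if_neg (not_lt.2 h'.le), if_pos h']; ring

/-- Functions on subsets. -/
abbrev Fn (R : Type*) (n : ℕ) := Finset (Fin n) → R

/-- Contraction with a vector. -/
def con (a : Fin n → R) : Fn R n →ₗ[R] Fn R n where
  toFun x K := ∑ j ∈ Kᶜ, (sgn j K : R) * a j * x (insert j K)
  map_add' x y := funext fun K => by simp [mul_add, sum_add_distrib]
  map_smul' c x := funext fun K => by simp [mul_sum]; exact sum_congr rfl fun _ _ => by ring

/-- Wedge with a vector. -/
def ext (b : Fin n → R) : Fn R n →ₗ[R] Fn R n where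
  toFun x K := ∑ j ∈ K, (sgn j K : R) * b j * x (K.erase j)
  map_add' x y := funext fun K => by simp [mul_add, sum_add_distrib]
  map_smul' c x := funext fun K => by simp [mul_sum]; exact sum_congr rfl fun _ _ => by ring

theorem con_apply (a : Fin n → R) (x : Fn R n) (K : Finset (Fin n)) :
    con a x K = ∑ j ∈ Kᶜ, (sgn j K : R) * a j * x (insert j K) := rfl

theorem ext_apply (b : Fin n → R) (x : Fn R n) (K : Finset (Fin n)) :
    ext b x K = ∑ j ∈ K, (sgn j K : R) * b j * x (K.erase j) := rfl

theorem con_con_apply (a a' : Fin n → R) (x : Fn R n) (K : Finset (Fin n)) :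
    con a (con a' x) K = ∑ j ∈ Kᶜ, ∑ l ∈ Kᶜ, if j = l then 0 else
      (sgn j K : R) * (sgn l (insert j K) : R) * (a j * a' l * x (insert l (insert j K))) := by
  rw [con_apply]
  refine sum_congr rfl fun j hj => ?_
  rw [con_apply, mul_sum, Finset.compl_insert]
  rw [← sum_erase_add _ _ hj, if_pos rfl, add_zero]
  refine sum_congr rfl fun l hl => ?_
  rw [if_neg (Finset.ne_of_mem_erase hl).symm]
  ring

/-- Contractions anticommute. -/
theorem con_anticomm (a a' : Fin n → R) (x : Fn R n) : con a (con a' x) + con a' (con a x) = 0 := by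
  funext K
  rw [Pi.add_apply, Pi.zero_apply, con_con_apply, con_con_apply, sum_comm (s := Kᶜ) (t := Kᶜ), ← sum_add_distrib]
  refine sum_eq_zero fun j hj => ?_
  rw [← sum_add_distrib]
  refine sum_eq_zero fun l hl => ?_
  rcases eq_or_ne j l with rfl | hne
  · simp
  · rw [if_neg hne.symm, if_neg hne, Finset.insert_comm j l]
    have h : ((sgn j K : R) * (sgn l (insert j K) : R)) + (sgn l K : R) * (sgn j (insert l K) : R) = 0 := by
      exact_mod_cast congrArg (Int.cast : ℤ → R) (sgn_comm hne (mem_compl.1 hj) (mem_compl.1 hl))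
    linear_combination (a l * a' j * x (insert l (insert j K))) * h

/-- A contraction squares to zero. -/
theorem con_con (a : Fin n → R) (x : Fn R n) : con a (con a x) = 0 := by
  funext K
  rw [Pi.zero_apply, con_con_apply, ← sum_product']
  refine sum_involution (fun p _ => (p.2, p.1)) (fun p hp => ?_) (fun p _ hp => ?_) (fun p hp => ?_)
    (fun p _ => rfl)
  · obtain ⟨j, l⟩ := p
    obtain ⟨hj, hl⟩ := mem_product.1 hp
    rcases eq_or_ne j l with rfl | hne
    · simp
    · rw [if_neg hne, if_neg hne.symm, Finset.insert_comm l j]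
      have h : ((sgn j K : R) * (sgn l (insert j K) : R)) + (sgn l K : R) * (sgn j (insert l K) : R) = 0 := by
        exact_mod_cast congrArg (Int.cast : ℤ → R) (sgn_comm hne (mem_compl.1 hj) (mem_compl.1 hl))
      linear_combination (a j * a l * x (insert j (insert l K))) * h
  · intro h
    exact hp (if_pos (congrArg Prod.fst h).symm)
  · exact mem_product.2 ⟨(mem_product.1 hp).2, (mem_product.1 hp).1⟩

/-- The pairing. -/
def dot (a b : Fin n → R) : R := ∑ j, a j * b j

/-- Contraction is an antiderivation. -/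
theorem con_ext (a b : Fin n → R) (x : Fn R n) : con a (ext b x) + ext b (con a x) = dot a b • x := by
  funext K
  have h1 : con a (ext b x) K = ∑ l ∈ Kᶜ, a l * b l * x K +
      ∑ l ∈ Kᶜ, ∑ j ∈ K, (sgn l K : R) * (sgn j (insert l K) : R) * (a l * b j * x (insert l (K.erase j))) := by
    rw [con_apply, ← sum_add_distrib]
    refine sum_congr rfl fun l hl => ?_
    rw [ext_apply, sum_insert (mem_compl.1 hl), mul_add, mul_sum, erase_insert (mem_compl.1 hl),
      sgn_insert_self (mem_compl.1 hl)]
    refine congrArg₂ (· + ·) ?_ (sum_congr rfl fun j hj => ?_)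
    · have h : (sgn l K : R) * (sgn l K : R) = 1 := by
        exact_mod_cast congrArg (Int.cast : ℤ → R) (sgn_mul_self l K)
      linear_combination (a l * b l * x K) * h
    · rw [erase_insert_of_ne (fun h : l = j => mem_compl.1 hl (by rw [h]; exact hj))]
      ring
  have h2 : ext b (con a x) K = ∑ j ∈ K, a j * b j * x K +
      ∑ j ∈ K, ∑ l ∈ Kᶜ, (sgn j K : R) * (sgn l (K.erase j) : R) * (a l * b j * x (insert l (K.erase j))) := by
    rw [ext_apply, ← sum_add_distrib]
    refine sum_congr rfl fun j hj => ?_
    rw [con_apply, compl_erase, sum_insert (by simpa using hj), mul_add, mul_sum, insert_erase hj]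
    refine congrArg₂ (· + ·) ?_ (sum_congr rfl fun l _ => ?_)
    · have e : sgn j (K.erase j) = sgn j K := by
        conv_rhs => rw [← insert_erase hj, sgn_insert_self (notMem_erase j K)]
      rw [e]
      have h : (sgn j K : R) * (sgn j K : R) = 1 := by
        exact_mod_cast congrArg (Int.cast : ℤ → R) (sgn_mul_self j K)
      linear_combination (a j * b j * x K) * h
    · ring
  rw [Pi.add_apply, h1, h2, sum_comm (s := Kᶜ) (t := K)]
  have h3 : ∀ j ∈ K, ∀ l ∈ Kᶜ, (sgn l K : R) * (sgn j (insert l K) : R) * (a l * b j * x (insert l (K.erase j))) +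
      (sgn j K : R) * (sgn l (K.erase j) : R) * (a l * b j * x (insert l (K.erase j))) = 0 := by
    intro j hj l hl
    have hlK : l ∉ K := mem_compl.1 hl
    have hne : j ≠ l := fun h => hlK (h ▸ hj)
    have e1 : sgn l K = (if j < l then -1 else 1) * sgn l (K.erase j) := by
      conv_lhs => rw [← insert_erase hj, sgn_insert (notMem_erase j K)]
    have e2 : sgn j (insert l K) = (if l < j then -1 else 1) * sgn j K := sgn_insert hlK
    have h : sgn l K * sgn j (insert l K) + sgn j K * sgn l (K.erase j) = 0 := by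
      rw [e1, e2]
      rcases lt_or_gt_of_ne hne with h' | h'
      · rw [if_pos h', if_neg (not_lt.2 h'.le)]; ring
      · rw [if_neg (not_lt.2 h'.le), if_pos h']; ring
    have h' : (sgn l K : R) * (sgn j (insert l K) : R) + (sgn j K : R) * (sgn l (K.erase j) : R) = 0 := by
      exact_mod_cast congrArg (Int.cast : ℤ → R) h
    linear_combination (a l * b j * x (insert l (K.erase j))) * h'
  rw [add_add_add_comm]
  have h4 : ∑ j ∈ K, ∑ l ∈ Kᶜ, (sgn l K : R) * (sgn j (insert l K) : R) * (a l * b j * x (insert l (K.erase j))) +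
      ∑ j ∈ K, ∑ l ∈ Kᶜ, (sgn j K : R) * (sgn l (K.erase j) : R) * (a l * b j * x (insert l (K.erase j))) = 0 := by
    rw [← sum_add_distrib]
    refine sum_eq_zero fun j hj => ?_
    rw [← sum_add_distrib]
    exact sum_eq_zero fun l hl => h3 j hj l hl
  rw [h4, add_zero, Pi.smul_apply, smul_eq_mul, dot, sum_mul]
  exact sum_compl_add_sum K _

theorem con_ext_of_dot_eq_zero {a b : Fin n → R} (h : dot a b = 0) (x : Fn R n) :
    con a (ext b x) = -ext b (con a x) :=
  eq_neg_of_add_eq_zero_left ((con_ext a b x).trans (by rw [h, zero_smul]))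

/-- Iterated contraction. -/
def conL : List (Fin n → R) → Fn R n →ₗ[R] Fn R n
  | [] => LinearMap.id
  | a :: L => (conL L).comp (con a)

/-- Iterated wedge. -/
def extL : List (Fin n → R) → Fn R n →ₗ[R] Fn R n
  | [] => LinearMap.id
  | b :: L => (ext b).comp (extL L)

/-- The function of the empty set. -/
def vac : Fn R n := Pi.single ∅ 1

theorem con_vac (a : Fin n → R) : con a (vac (R := R)) = 0 := funext fun K => by
  rw [con_apply]
  exact sum_eq_zero fun j _ => by
    rw [vac, Pi.single_eq_of_ne (Finset.insert_ne_empty j K), mul_zero]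

theorem con_extL (a : Fin n → R) : ∀ {p : ℕ} (B : Fin (p + 1) → Fin n → R),
    con a (extL (List.ofFn B) vac) =
      ∑ j : Fin (p + 1), ((-1 : R) ^ (j : ℕ) * dot a (B j)) • extL (List.ofFn (B ∘ j.succAbove)) vac
  | 0, B => by
    rw [List.ofFn_succ, List.ofFn_zero]
    show con a (ext (B 0) vac) = _
    rw [eq_sub_of_add_eq (con_ext a (B 0) vac), con_vac, map_zero, sub_zero, Fin.sum_univ_one]
    simp [List.ofFn_zero, extL]
  | p + 1, B => by
    rw [List.ofFn_succ]
    show con a (ext (B 0) (extL (List.ofFn fun i => B i.succ) vac)) = _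
    rw [eq_sub_of_add_eq (con_ext a (B 0) _), con_extL a (fun i => B i.succ), map_sum, Fin.sum_univ_succ (n := p + 1),
      sub_eq_add_neg, ← sum_neg_distrib]
    refine congrArg₂ (· + ·) ?_ (sum_congr rfl fun j _ => ?_)
    · simp only [Fin.val_zero, pow_zero, one_mul, Fin.succAbove_zero]
      rfl
    · have e : List.ofFn (B ∘ j.succ.succAbove) = B 0 :: List.ofFn ((fun i => B i.succ) ∘ j.succAbove) := by
        rw [List.ofFn_succ]
        simp [Function.comp_def]
      rw [map_smul, e, ← neg_smul, Fin.val_succ, pow_succ]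
      show _ = _ • ext (B 0) (extL (List.ofFn ((fun i => B i.succ) ∘ j.succAbove)) vac)
      congr 1
      ring

/-- Contracting a wedge gives a determinant. -/
theorem conL_extL : ∀ {p : ℕ} (A B : Fin p → Fin n → R),
    conL (List.ofFn A) (extL (List.ofFn B) vac) = (Matrix.of fun i j => dot (A i) (B j)).det • (vac : Fn R n)
  | 0, A, B => by simp [conL, extL]
  | p + 1, A, B => by
    rw [List.ofFn_succ (f := A)]
    show conL (List.ofFn fun i => A i.succ) (con (A 0) (extL (List.ofFn B) vac)) = _
    rw [con_extL, map_sum, Matrix.det_succ_row_zero, sum_smul]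
    refine sum_congr rfl fun j _ => ?_
    rw [map_smul, conL_extL (fun i => A i.succ) (B ∘ j.succAbove), smul_smul]
    rfl

theorem ext_single {j : Fin n} {K : Finset (Fin n)} (hj : j ∉ K) :
    ext (Pi.single j (1 : R)) (Pi.single K 1) = (sgn j K : R) • Pi.single (insert j K) (1 : R) := by
  funext L
  rw [ext_apply, Pi.smul_apply, smul_eq_mul]
  by_cases hjL : j ∈ L
  · rw [sum_eq_single_of_mem j hjL fun i _ hi => by rw [Pi.single_eq_of_ne hi, mul_zero, zero_mul],
      Pi.single_eq_same, mul_one]
    by_cases h : L.erase j = K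
    · subst h
      rw [Pi.single_eq_same, mul_one, insert_erase hjL, Pi.single_eq_same, mul_one]
      conv_lhs => rw [← insert_erase hjL, sgn_insert_self (notMem_erase j L)]
    · rw [Pi.single_eq_of_ne h, mul_zero, Pi.single_eq_of_ne (fun h' => h (by rw [h', erase_insert hj])), mul_zero]
  · rw [Pi.single_eq_of_ne (fun h' : L = insert j K => hjL (h' ▸ mem_insert_self j K)), mul_zero]
    exact sum_eq_zero fun i hi => by
      rw [Pi.single_eq_of_ne (fun h : i = j => hjL (h ▸ hi)), mul_zero, zero_mul]

/-- A wedge of increasing basis vectors. -/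
theorem extL_basis : ∀ {p : ℕ} (v : Fin p → Fin n), StrictMono v →
    extL (List.ofFn fun i => Pi.single (v i) (1 : R)) vac = Pi.single (univ.image v) 1
  | 0, v, _ => by simp [extL, vac]
  | p + 1, v, hv => by
    rw [List.ofFn_succ]
    show ext (Pi.single (v 0) 1) (extL (List.ofFn fun i => Pi.single (v i.succ) (1 : R)) vac) = _
    have h0 : v 0 ∉ univ.image (fun i : Fin p => v i.succ) := fun h => by
      obtain ⟨i, -, hi⟩ := mem_image.1 h
      exact (hv (Fin.succ_pos i)).ne' hi
    rw [extL_basis (fun i => v i.succ) (hv.comp Fin.strictMono_succ), ext_single h0]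
    have hs : sgn (v 0) (univ.image fun i : Fin p => v i.succ) = 1 := by
      rw [sgn, filter_false_of_mem, card_empty, pow_zero]
      intro y hy
      obtain ⟨i, -, rfl⟩ := mem_image.1 hy
      exact not_lt.2 (hv (Fin.succ_pos i)).le
    rw [hs, Int.cast_one, one_smul]
    congr 1
    ext y
    simp only [mem_insert, mem_image, mem_univ, true_and, Fin.exists_fin_succ]
    tauto

theorem dot_single (a : Fin n → R) (j : Fin n) : dot a (Pi.single j 1) = a j := by
  rw [dot, sum_eq_single_of_mem j (mem_univ j) fun i _ hi => by rw [Pi.single_eq_of_ne hi, mul_zero],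
    Pi.single_eq_same, mul_one]

/-- `x` is supported on sets of size `p`. -/
def Supp (p : ℕ) (x : Fn R n) : Prop := ∀ K : Finset (Fin n), K.card ≠ p → x K = 0

theorem Supp.con {p : ℕ} {x : Fn R n} (h : Supp (p + 1) x) (a : Fin n → R) : Supp p (EN.con a x) := fun K hK => by
  rw [con_apply]
  exact sum_eq_zero fun j hj => by
    rw [h _ (by rw [card_insert_of_notMem (mem_compl.1 hj)]; omega), mul_zero]

theorem Supp.conL : ∀ {L : List (Fin n → R)} {x : Fn R n}, Supp L.length x → Supp 0 (EN.conL L x)
  | [], _, h => h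
  | a :: L, _, h => Supp.conL (L := L) (Supp.con h a)

/-- The ordered enumeration of a set. -/
def enum {p : ℕ} (K : Finset (Fin n)) (h : K.card = p) : Fin p → Fin n := K.orderEmbOfFin h

/-- Iterated contraction is a combination of minors. -/
theorem conL_eq_sum (A : Fin m → Fin n → R) (x : Fn R n) (hx : Supp m x) :
    conL (List.ofFn A) x ∅ =
      ∑ K : {K : Finset (Fin n) // K.card = m}, x K.1 * (Matrix.of fun i j => A i (enum K.1 K.2 j)).det := by
  have hx' : x = ∑ K : {K : Finset (Fin n) // K.card = m}, x K.1 • (Pi.single K.1 1 : Fn R n) := by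
    funext L
    rw [Finset.sum_apply]
    by_cases hL : L.card = m
    · rw [sum_eq_single_of_mem ⟨L, hL⟩ (mem_univ _) fun K _ hK => by
        rw [Pi.smul_apply, Pi.single_eq_of_ne (fun h => hK (Subtype.ext h.symm)), smul_zero],
        Pi.smul_apply, Pi.single_eq_same, smul_eq_mul, mul_one]
    · rw [hx L hL]
      exact (sum_eq_zero fun K _ => by
        rw [Pi.smul_apply, Pi.single_eq_of_ne (fun h : L = K.1 => hL (by rw [h, K.2])), smul_zero]).symm
  conv_lhs => rw [hx', map_sum]
  rw [Finset.sum_apply]
  refine sum_congr rfl fun K _ => ?_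
  have hb := extL_basis (R := R) (enum K.1 K.2) (K.1.orderEmbOfFin K.2).strictMono
  rw [show univ.image (enum K.1 K.2) = K.1 from Finset.coe_injective (by
    rw [coe_image, coe_univ, Set.image_univ]; exact K.1.range_orderEmbOfFin K.2)] at hb
  rw [map_smul, Pi.smul_apply, smul_eq_mul, ← hb, conL_extL, Pi.smul_apply, vac, Pi.single_eq_same, smul_eq_mul,
    mul_one]
  simp only [dot_single]

theorem conL_con_of_mem : ∀ {L : List (Fin n → R)} {a : Fin n → R}, a ∈ L → ∀ x, conL L (con a x) = 0
  | [], _, h, _ => absurd h (List.not_mem_nil)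
  | b :: L, a, h, x => by
    show conL L (con b (con a x)) = 0
    rcases List.mem_cons.1 h with rfl | h
    · rw [con_con, map_zero]
    · rw [eq_neg_of_add_eq_zero_left (con_anticomm b a x), map_neg, conL_con_of_mem h, neg_zero]

theorem conL_ext {b : Fin n → R} : ∀ {L : List (Fin n → R)}, (∀ a ∈ L, dot a b = 0) →
    ∀ x, conL L (ext b x) = (-1 : R) ^ L.length • ext b (conL L x)
  | [], _, x => by simp [conL]
  | a :: L, h, x => by
    show conL L (con a (ext b x)) = _
    rw [con_ext_of_dot_eq_zero (h a (List.mem_cons_self)), map_neg,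
      conL_ext (fun a' ha' => h a' (List.mem_cons_of_mem a ha')), List.length_cons, pow_succ]
    rw [mul_neg_one, neg_smul]
    rfl

end Groth.Agent.CAlgH3.EN
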