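import Groth.Agent.CAlgH3.EN.Minors
import Groth.Agent.FlatMor12.FittSheaf
import Groth.Agent.Coherent.CohOps

/-!
# The zeroth Fitting ideal of a cokernel is the ideal of maximal minors
-/

set_option autoImplicit false
set_option linter.unusedSectionVars false
set_option backward.isDefEq.respectTransparency.types false

universe u

open CategoryTheory CategoryTheory.Limits AlgebraicGeometry Opposite TopologicalSpace
open Groth.Agent.Coherent Groth.Agent.PicLib Groth.Agent.AmpleLib

noncomputable section

namespace Groth.Agent.CAlgH3.EN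

attribute [local instance] hasFiniteBiproducts

section alg

variable {R : Type*} [CommRing R] {n m : ℕ}

/-- The minors of a set of columns. -/
theorem minorsOf_cols (A : Fin m → Fin n → R) :
    FittLib.minorsOf (Set.range fun j : Fin n => fun i => A i j) m =
      Ideal.span (Set.range fun v : Fin m → Fin n => (Matrix.of fun i q => A i (v q)).det) := by
  refine le_antisymm (Ideal.span_le.2 ?_) (Ideal.span_le.2 ?_)
  · rintro _ ⟨z, e, hz, rfl⟩
    choose v hv using hz
    have hz' : (Matrix.of fun a b => z b (e a)) = (Matrix.of fun i q => A i (v q)).submatrix e id :=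
      Matrix.ext fun a b => (congrFun (hv b) (e a)).symm
    rw [hz']
    by_cases he : Function.Injective e
    · have hb : Function.Bijective e := ⟨he, Finite.surjective_of_injective he⟩
      rw [show e = (Equiv.ofBijective e hb : Fin m → Fin m) from rfl, Matrix.det_permute]
      exact Ideal.mul_mem_left _ _ (Ideal.subset_span ⟨v, rfl⟩)
    · obtain ⟨a, b, hab, hne⟩ := Function.not_injective_iff.1 he
      rw [Matrix.det_zero_of_row_eq hne (funext fun c => by
        show (Matrix.of fun i q => A i (v q)) (e a) c = (Matrix.of fun i q => A i (v q)) (e b) c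
        rw [hab])]
      exact zero_mem _
  · rintro _ ⟨v, rfl⟩
    exact Ideal.subset_span ⟨fun b i => A i (v b), id, fun b => ⟨v b, rfl⟩, rfl⟩

end alg

variable {X : Scheme.{u}} {n m : ℕ}

section

variable {P : X.Modules} (Φ : (⨁ fun _ : Fin n => P) ⟶ ⨁ fun _ : Fin m => Coh.structureModule X)

/-- The coefficients of a map of sums. -/
def coeffs (i : Fin m) (j : Fin n) : P ⟶ Coh.structureModule X :=
  biproduct.ι (fun _ : Fin n => P) j ≫ Φ ≫ biproduct.π (fun _ : Fin m => Coh.structureModule X) i

theorem app_ι_π {κ : Type} [Fintype κ] [DecidableEq κ] (G : κ → X.Modules) (W : X.Opens) (i j : κ) (a : Γ(G j, W)) :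
    (biproduct.π G i).app W ((biproduct.ι G j).app W a) =
      if h : j = i then (eqToHom (congrArg G h)).app W a else 0 := by
  refine (app_comp_apply _ _ W _).symm.trans ?_
  rw [biproduct.ι_π]
  split_ifs with h
  · rfl
  · rfl

/-- The basic sections of a sum of copies of the structure sheaf. -/
def basic (W : X.Opens) (i : Fin m) : Γ(⨁ fun _ : Fin m => Coh.structureModule X, W) :=
  (biproduct.ι (fun _ : Fin m => Coh.structureModule X) i).app W (1 : Γ(X, W))

theorem π_basic (W : X.Opens) (v : Fin m → Γ(X, W)) (i : Fin m) :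
    (biproduct.π (fun _ : Fin m => Coh.structureModule X) i).app W (∑ l, v l • basic W l) = toO W (v i) := by
  classical
  rw [map_sum, Finset.sum_eq_single_of_mem i (Finset.mem_univ i) fun l _ hl => by
    rw [Scheme.Modules.Hom.app_smul, basic, app_ι_π, dif_neg hl, smul_zero],
    Scheme.Modules.Hom.app_smul, basic, app_ι_π, dif_pos rfl]
  exact mul_one (v i)

theorem eq_of_π {W : X.Opens} {a b : Γ(⨁ fun _ : Fin m => Coh.structureModule X, W)}
    (h : ∀ i, (biproduct.π (fun _ : Fin m => Coh.structureModule X) i).app W a =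
      (biproduct.π (fun _ : Fin m => Coh.structureModule X) i).app W b) : a = b := by
  classical
  rw [← biproduct_sections_total (fun _ : Fin m => Coh.structureModule X) W a,
    ← biproduct_sections_total (fun _ : Fin m => Coh.structureModule X) W b]
  exact Finset.sum_congr rfl fun i _ => by rw [h i]

theorem π_app_sum {W : X.Opens} (g : Γ(P, W)) (c : Fin n → Γ(X, W)) (i : Fin m) :
    (biproduct.π (fun _ : Fin m => Coh.structureModule X) i).app W
      (Φ.app W (∑ j, (biproduct.ι (fun _ : Fin n => P) j).app W (c j • g))) =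
      toO W (∑ j, c j * mat (coeffs Φ) g i j) := by
  rw [map_sum, map_sum, map_sum]
  refine Finset.sum_congr rfl fun j _ => ?_
  rw [Scheme.Modules.Hom.app_smul, Scheme.Modules.Hom.app_smul, Scheme.Modules.Hom.app_smul]
  rfl

/-- The Fitting ideal of a quotient of a sum of copies of the structure sheaf by the image of `Φ`. -/
theorem isMinorIdeal_sheafIdeal (hP : PicF.IsInvertible P) {F : X.Modules} (hF : Coh.IsQCoh F) (hFT : CohB1.IsFT F)
    (q : (⨁ fun _ : Fin m => Coh.structureModule X) ⟶ F) [Epi q] (h : Φ ≫ q = 0)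
    (hex : (ShortComplex.mk Φ q h).Exact) : IsMinorIdeal (coeffs Φ) (Fitt.sheafIdeal F 0) := by
  classical
  intro W hW g hg
  haveI := hF
  haveI : Coh.IsQCoh (⨁ fun _ : Fin m => Coh.structureModule X) :=
    isQCoh_biproduct _ fun _ => Coherent.isQCoh_structureModule
  haveI : Coh.IsQCoh (⨁ fun _ : Fin n => P) := isQCoh_biproduct _ fun _ => isQCoh_of_isInvertible hP
  haveI : Coh.IsQCoh (kernel q) := isQCoh_kernel q
  haveI : Epi (kernel.lift q Φ h) := (ShortComplex.exact_iff_epi_kernel_lift _).1 hex
  rw [FlatMor12.FittSheaf.ideal_eq F hFT 0 ⟨W, hW⟩]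
  let x : Fin m → Γ(F, W) := fun i => q.app W (basic W i)
  have hx : Submodule.span Γ(X, W) (Set.range x) = ⊤ := by
    refine Submodule.eq_top_iff'.2 fun z => ?_
    obtain ⟨b, rfl⟩ := FlatMor12.FittSheaf.surjective_app_of_epi' q hW z
    have hv : ∀ i, ∃ v : Γ(X, W), toO W v = (biproduct.π (fun _ : Fin m => Coh.structureModule X) i).app W b :=
      fun i => ⟨_, rfl⟩
    choose v hv using hv
    rw [show b = ∑ l, v l • basic W l from eq_of_π fun i => (hv i).symm.trans (π_basic W v i).symm, map_sum]
    refine Submodule.sum_mem _ fun l _ => ?_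
    rw [Scheme.Modules.Hom.app_smul]
    exact Submodule.smul_mem _ _ (Submodule.subset_span ⟨l, rfl⟩)
  have hsum : ∀ v : Fin m → Γ(X, W), ∑ i, v i • x i = q.app W (∑ l, v l • basic W l) := fun v => by
    rw [map_sum]
    exact Finset.sum_congr rfl fun l _ => (Scheme.Modules.Hom.app_smul _ _ _).symm
  have hrels : (FittLib.rels Γ(X, W) x : Set (Fin m → Γ(X, W))) =
      (Submodule.span Γ(X, W) (Set.range fun j : Fin n => fun i => mat (coeffs Φ) g i j) : Set (Fin m → Γ(X, W))) := by
    ext v
    rw [SetLike.mem_coe, SetLike.mem_coe, FittLib.mem_rels, hsum, Submodule.mem_span_range_iff_exists_fun]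
    constructor
    · intro hv
      obtain ⟨k, hk⟩ := kernel_sections_exact q _ hv
      obtain ⟨z, hz⟩ := FlatMor12.FittSheaf.surjective_app_of_epi' (kernel.lift q Φ h) hW k
      have hc : ∀ j, ∃ c : Γ(X, W), c • g = (biproduct.π (fun _ : Fin n => P) j).app W z := fun j => by
        obtain ⟨c, hc⟩ := (hg W le_rfl).2 ((biproduct.π (fun _ : Fin n => P) j).app W z)
        exact ⟨c, by simpa only [resM_self] using hc⟩
      choose c hc using hc
      have hzs : z = ∑ j, (biproduct.ι (fun _ : Fin n => P) j).app W (c j • g) := by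
        conv_lhs => rw [← biproduct_sections_total (fun _ : Fin n => P) W z]
        exact Finset.sum_congr rfl fun j _ => by rw [hc]
      have hΦ : Φ.app W z = ∑ l, v l • basic W l := by
        rw [show Φ = kernel.lift q Φ h ≫ kernel.ι q from (kernel.lift_ι _ _ _).symm, app_comp_apply, hz, hk]
      refine ⟨c, funext fun i => ?_⟩
      have h1 := π_app_sum Φ g c i
      rw [← hzs, hΦ, π_basic] at h1
      rw [Finset.sum_apply]
      refine Eq.trans ?_ h1.symm
      exact Finset.sum_congr rfl fun j _ => rfl
    · rintro ⟨c, rfl⟩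
      rw [show (∑ l, (∑ j, c j • fun i => mat (coeffs Φ) g i j) l • basic W l) =
        Φ.app W (∑ j, (biproduct.ι (fun _ : Fin n => P) j).app W (c j • g)) from eq_of_π fun i => by
          rw [π_basic, π_app_sum, Finset.sum_apply]; rfl]
      exact ConcreteCategory.congr_hom (congrArg (fun φ => Scheme.Modules.Hom.app φ W) h) _
  rw [FittLib.ideal_eq x hx 0, hrels, FittLib.minorsOf_span]
  exact minorsOf_cols _

end

end Groth.Agent.CAlgH3.EN

end
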