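import Groth.Agent.CAlgH3.EN.Alg
import Mathlib.Data.List.FinRange
import Mathlib.Algebra.Module.Pi

/-!
# The Eagon–Northcott differential and its homotopy
-/

set_option autoImplicit false

open Finset

namespace Groth.Agent.CAlgH3.EN

variable {R : Type*} [CommRing R] {n m : ℕ}

/-- Functions on exponents and subsets. -/
abbrev Tot (R : Type*) (n m : ℕ) := (Fin m → ℕ) → Fn R n

/-- The unit exponent. -/
abbrev unit (i : Fin m) : Fin m → ℕ := Pi.single i 1

variable (A B : Fin m → Fin n → R)

/-- One summand of the differential. -/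
def D (i : Fin m) : Tot R n m →ₗ[R] Tot R n m where
  toFun x α := con (A i) (x (α + unit i))
  map_add' x y := funext fun α => (con (A i)).map_add (x (α + unit i)) (y (α + unit i))
  map_smul' c x := funext fun α => (con (A i)).map_smul c (x (α + unit i))

/-- The differential. -/
def d : Tot R n m →ₗ[R] Tot R n m := ∑ i, D A i

/-- One summand of the homotopy. -/
def h (l : Fin m) : Tot R n m →ₗ[R] Tot R n m where
  toFun x α := if α l = 0 then 0 else ext (B l) (x (α - unit l))
  map_add' x y := funext fun α => by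
    show (if α l = 0 then (0 : Fn R n) else ext (B l) ((x + y) (α - unit l))) = _
    rcases eq_or_ne (α l) 0 with h | h <;> simp [h]
  map_smul' c x := funext fun α => by
    show (if α l = 0 then (0 : Fn R n) else ext (B l) ((c • x) (α - unit l))) = _
    rcases eq_or_ne (α l) 0 with h | h <;> simp [h]

/-- The projection left over by `h`. -/
def P (l : Fin m) : Tot R n m →ₗ[R] Tot R n m where
  toFun x α := if α l = 0 then ext (B l) (con (A l) (x α)) else 0
  map_add' x y := funext fun α => by
    show (if α l = 0 then ext (B l) (con (A l) ((x + y) α)) else (0 : Fn R n)) = _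
    rcases eq_or_ne (α l) 0 with h | h <;> simp [h]
  map_smul' c x := funext fun α => by
    show (if α l = 0 then ext (B l) (con (A l) ((c • x) α)) else (0 : Fn R n)) = _
    rcases eq_or_ne (α l) 0 with h | h <;> simp [h]

theorem D_apply (i : Fin m) (x : Tot R n m) (α : Fin m → ℕ) : D A i x α = con (A i) (x (α + unit i)) := rfl

theorem h_apply (l : Fin m) (x : Tot R n m) (α : Fin m → ℕ) :
    h B l x α = if α l = 0 then 0 else ext (B l) (x (α - unit l)) := rfl

theorem P_apply (l : Fin m) (x : Tot R n m) (α : Fin m → ℕ) :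
    P A B l x α = if α l = 0 then ext (B l) (con (A l) (x α)) else 0 := rfl

theorem d_apply (x : Tot R n m) (α : Fin m → ℕ) : d A x α = ∑ i, con (A i) (x (α + unit i)) := by
  rw [d, LinearMap.sum_apply, Finset.sum_apply]
  rfl

theorem D_anticomm (i j : Fin m) (x : Tot R n m) : D A i (D A j x) + D A j (D A i x) = 0 := funext fun α => by
  rw [Pi.add_apply, D_apply, D_apply, D_apply, D_apply, add_right_comm α (unit i) (unit j)]
  exact con_anticomm _ _ _

theorem D_D (i : Fin m) (x : Tot R n m) : D A i (D A i x) = 0 := funext fun _ => con_con _ _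

/-- The differential squares to zero. -/
theorem d_d (x : Tot R n m) : d A (d A x) = 0 := by
  simp only [d, LinearMap.sum_apply, map_sum]
  rw [← sum_product']
  refine sum_involution (fun p _ => (p.2, p.1)) (fun p _ => D_anticomm A p.2 p.1 x) (fun p _ hp h => hp ?_)
    (fun p hp => mem_product.2 ⟨(mem_product.1 hp).2, (mem_product.1 hp).1⟩) (fun p _ => rfl)
  rw [show p.1 = p.2 from (congrArg Prod.fst h).symm]
  exact D_D A _ x

variable {A B} {Δ : R} (hAB : ∀ i l, dot (A i) (B l) = if i = l then Δ else 0)

include hAB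

theorem D_h_of_ne {i l : Fin m} (hil : i ≠ l) (x : Tot R n m) : D A i (h B l x) + h B l (D A i x) = 0 := by
  funext α
  rw [Pi.add_apply, D_apply, h_apply, h_apply, D_apply]
  have hl : (α + unit i) l = α l := by simp [unit, Pi.single_eq_of_ne hil.symm]
  rw [hl]
  by_cases hα : α l = 0
  · simp [hα]
  · rw [if_neg hα, if_neg hα]
    have e : α + unit i - unit l = α - unit l + unit i := funext fun j => by
      rcases eq_or_ne j l with rfl | hj
      · simp [unit, Pi.single_eq_of_ne hil.symm]
      · simp [unit, Pi.single_eq_of_ne hj]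
    rw [e, con_ext_of_dot_eq_zero ((hAB i l).trans (if_neg hil)), neg_add_cancel]
    rfl

theorem D_h_self (l : Fin m) (x : Tot R n m) : D A l (h B l x) + h B l (D A l x) = Δ • x - P A B l x := by
  funext α
  rw [Pi.add_apply, D_apply, h_apply, h_apply, D_apply, Pi.sub_apply, Pi.smul_apply, P_apply]
  have h1 : ¬(α + unit l) l = 0 := by simp [unit]
  have h2 : α + unit l - unit l = α := funext fun j => Nat.add_sub_cancel _ _
  rw [if_neg h1, h2]
  have key := con_ext (A l) (B l) (x α)
  rw [(hAB l l).trans (if_pos rfl)] at key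
  by_cases hα : α l = 0
  · rw [if_pos hα, if_pos hα, add_zero, ← key, add_sub_cancel_right]
  · have h3 : α - unit l + unit l = α := funext fun j => by
      rcases eq_or_ne j l with rfl | hj
      · simp [unit]; omega
      · simp [unit, Pi.single_eq_of_ne hj]
    rw [if_neg hα, if_neg hα, h3, sub_zero, key]

theorem d_h (l : Fin m) (x : Tot R n m) : d A (h B l x) + h B l (d A x) = Δ • x - P A B l x := by
  simp only [d, LinearMap.sum_apply, map_sum]
  rw [← sum_add_distrib, sum_eq_single_of_mem l (mem_univ l) fun i _ hi => D_h_of_ne hAB hi x, D_h_self hAB l x]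

theorem D_P (i l : Fin m) (x : Tot R n m) : D A i (P A B l x) = P A B l (D A i x) := by
  funext α
  rw [D_apply, P_apply, P_apply, D_apply]
  rcases eq_or_ne i l with rfl | hil
  · rw [if_neg (show ¬(α + unit i) i = 0 by simp [unit]), map_zero, con_con, map_zero, ite_self]
  · have hl : (α + unit i) l = α l := by simp [unit, Pi.single_eq_of_ne hil.symm]
    rw [hl]
    by_cases hα : α l = 0
    · rw [if_pos hα, if_pos hα, con_ext_of_dot_eq_zero ((hAB i l).trans (if_neg hil)),
        eq_neg_of_add_eq_zero_left (con_anticomm (A i) (A l) _), map_neg, neg_neg]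
    · rw [if_neg hα, if_neg hα, map_zero]

theorem d_P (l : Fin m) (x : Tot R n m) : d A (P A B l x) = P A B l (d A x) := by
  simp only [d, LinearMap.sum_apply, map_sum, D_P hAB]

omit hAB

variable (A B) in
/-- The composite of the projections. -/
def Q : List (Fin m) → Tot R n m →ₗ[R] Tot R n m
  | [] => LinearMap.id
  | l :: L => (Q L).comp (P A B l)

variable (A B Δ) in
/-- The homotopy. -/
def H : List (Fin m) → Tot R n m →ₗ[R] Tot R n m
  | [] => 0
  | l :: L => Δ ^ L.length • h B l + (H L).comp (P A B l)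

include hAB in
/-- The homotopy identity. -/
theorem d_H : ∀ (L : List (Fin m)) (x : Tot R n m),
    d A (H A B Δ L x) + H A B Δ L (d A x) = Δ ^ L.length • x - Q A B L x
  | [], x => by simp [H, Q]
  | l :: L, x => by
    show d A (Δ ^ L.length • h B l x + H A B Δ L (P A B l x)) +
      (Δ ^ L.length • h B l (d A x) + H A B Δ L (P A B l (d A x))) = Δ ^ (L.length + 1) • x - Q A B L (P A B l x)
    rw [← d_P hAB, map_add, map_smul, add_add_add_comm, ← smul_add, d_h hAB, d_H L (P A B l x), smul_sub, smul_smul,
      ← pow_succ]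
    abel

variable (A B) in
theorem Q_apply_eq_zero : ∀ (L : List (Fin m)) (x : Tot R n m) (α : Fin m → ℕ) (l : Fin m), l ∈ L → α l ≠ 0 →
    Q A B L x α = 0
  | [], _, _, _, h, _ => absurd h (List.not_mem_nil)
  | l' :: L, x, α, l, h, hα => by
    by_cases hL : l ∈ L
    · exact Q_apply_eq_zero L _ α l hL hα
    · rcases List.mem_cons.1 h with rfl | h
      · have key : ∀ (L : List (Fin m)) (y : Tot R n m), y α = 0 → Q A B L y α = 0 := by
          intro L
          induction L with
          | nil => exact fun y hy => hy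
          | cons a L ih =>
            intro y hy
            refine ih _ ?_
            rw [P_apply, hy, map_zero, map_zero, ite_self]
        exact key L _ (if_neg hα)
      · exact absurd h hL

include hAB in
theorem Q_eq_zero_of_conL : ∀ (L : List (Fin m)), L.Nodup → ∀ (x : Tot R n m) (α : Fin m → ℕ),
    (∀ l ∈ L, α l = 0) → conL (L.map A) (x α) = 0 → Q A B L x α = 0
  | [], _, _, _, _, h => h
  | l :: L, hL, x, α, hα, h => by
    obtain ⟨hl, hL⟩ := List.nodup_cons.1 hL
    refine Q_eq_zero_of_conL L hL _ α (fun l' hl' => hα l' (List.mem_cons_of_mem _ hl')) ?_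
    rw [P_apply, if_pos (hα l List.mem_cons_self), conL_ext (fun a ha => ?_)]
    · have h' : conL (L.map A) (con (A l) (x α)) = 0 := h
      rw [h', map_zero, smul_zero]
    · obtain ⟨i, hi, rfl⟩ := List.mem_map.1 ha
      exact (hAB i l).trans (if_neg fun e : i = l => hl (by rwa [← e]))

omit hAB

/-- Homogeneous elements. -/
def Homog (s : ℕ) (x : Tot R n m) : Prop :=
  ∀ α (K : Finset (Fin n)), (∑ i, α i ≠ s ∨ K.card ≠ m + s) → x α K = 0

theorem sum_add_unit (α : Fin m → ℕ) (i : Fin m) : ∑ j, (α + unit i) j = ∑ j, α j + 1 := by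
  simp [unit, sum_add_distrib]

theorem sum_sub_unit {α : Fin m → ℕ} {l : Fin m} (h : α l ≠ 0) : ∑ j, α j = ∑ j, (α - unit l) j + 1 := by
  rw [← sum_add_unit (α - unit l) l]
  refine sum_congr rfl fun j _ => ?_
  rcases eq_or_ne j l with rfl | hj
  · simp [unit]; omega
  · simp [unit, Pi.single_eq_of_ne hj]

theorem Homog.zero (s : ℕ) : Homog s (0 : Tot R n m) := fun _ _ _ => rfl

theorem Homog.add {s : ℕ} {x y : Tot R n m} (hx : Homog s x) (hy : Homog s y) : Homog s (x + y) := fun α K h => by
  rw [Pi.add_apply, Pi.add_apply, hx α K h, hy α K h, add_zero]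

theorem Homog.smul {s : ℕ} {x : Tot R n m} (hx : Homog s x) (c : R) : Homog s (c • x) := fun α K h => by
  rw [Pi.smul_apply, Pi.smul_apply, hx α K h, smul_zero]

theorem Homog.supp {s : ℕ} {x : Tot R n m} (hx : Homog s x) (α : Fin m → ℕ) : Supp (m + s) (x α) :=
  fun K hK => hx α K (Or.inr hK)

theorem Homog.d {s : ℕ} {x : Tot R n m} (hx : Homog (s + 1) x) : Homog s (EN.d A x) := fun α K h => by
  rw [d_apply, Finset.sum_apply]
  refine sum_eq_zero fun i _ => ?_
  rw [con_apply]
  refine sum_eq_zero fun j hj => ?_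
  rw [hx _ _ ?_, mul_zero]
  rw [sum_add_unit, card_insert_of_notMem (mem_compl.1 hj)]
  omega

theorem Homog.h {s : ℕ} {x : Tot R n m} (hx : Homog s x) (l : Fin m) : Homog (s + 1) (EN.h B l x) := fun α K hh => by
  rw [h_apply]
  by_cases hα : α l = 0
  · rw [if_pos hα]; rfl
  · rw [if_neg hα, ext_apply]
    refine sum_eq_zero fun j hj => ?_
    rw [hx _ _ ?_, mul_zero]
    have := sum_sub_unit hα
    rw [card_erase_of_mem hj]
    have := card_pos.2 ⟨j, hj⟩
    omega

theorem Homog.P {s : ℕ} {x : Tot R n m} (hx : Homog s x) (l : Fin m) : Homog s (EN.P A B l x) := fun α K hh => by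
  rw [P_apply]
  by_cases hα : α l = 0
  · rw [if_pos hα, ext_apply]
    refine sum_eq_zero fun j hj => ?_
    rw [con_apply, sum_eq_zero (fun i hi => ?_), mul_zero]
    rw [hx _ _ ?_, mul_zero]
    rw [card_insert_of_notMem (mem_compl.1 hi), card_erase_of_mem hj]
    have := card_pos.2 ⟨j, hj⟩
    omega
  · rw [if_neg hα]; rfl

theorem Homog.H : ∀ (L : List (Fin m)) {s : ℕ} {x : Tot R n m}, Homog s x → Homog (s + 1) (EN.H A B Δ L x)
  | [], _, _, _ => Homog.zero _
  | l :: L, _, _, hx => (hx.h l |>.smul _).add (Homog.H L (hx.P l))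

variable (A) in
/-- The augmentation. -/
def aug (x : Tot R n m) : R := conL (List.ofFn A) (x 0) ∅

theorem Homog.eq_zero_of_aug {x : Tot R n m} (hx : Homog 0 x) (h : aug A x = 0) :
    conL (List.ofFn A) (x 0) = 0 := funext fun K => by
  rcases eq_or_ne K ∅ with rfl | hK
  · exact h
  · exact Supp.conL (by simpa using hx.supp 0) K (by simpa using hK)

/-- The augmentation kills boundaries. -/
theorem aug_d (x : Tot R n m) : aug A (EN.d A x) = 0 := by
  rw [aug, d_apply, map_sum, sum_eq_zero (fun i _ => conL_con_of_mem (List.mem_ofFn.2 ⟨i, rfl⟩) _)]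
  rfl

include hAB in
/-- Away from the minors the complex is exact. -/
theorem exists_d_eq {s : ℕ} {x : Tot R n m} (hx : Homog s x) (h0 : EN.d A x = 0) (haug : s = 0 → aug A x = 0) :
    ∃ y, Homog (s + 1) y ∧ EN.d A y = Δ ^ m • x := by
  refine ⟨EN.H A B Δ (List.finRange m) x, Homog.H _ hx, ?_⟩
  have hQ : Q A B (List.finRange m) x = 0 := funext fun α => by
    by_cases hα : α = 0
    · subst hα
      refine Q_eq_zero_of_conL hAB _ (List.nodup_finRange m) x 0 (fun _ _ => rfl) ?_
      rw [← List.ofFn_eq_map]
      rcases Nat.eq_zero_or_pos s with rfl | hs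
      · exact Homog.eq_zero_of_aug hx (haug rfl)
      · rw [show x 0 = 0 from funext fun K => hx 0 K (Or.inl (by simp; omega)), map_zero]
    · obtain ⟨l, hl⟩ : ∃ l, α l ≠ 0 := by
        by_contra hc
        exact hα (funext fun l => not_not.1 fun hl => hc ⟨l, hl⟩)
      exact Q_apply_eq_zero A B _ x α l (List.mem_finRange l) hl
  have := d_H hAB (List.finRange m) x
  rwa [h0, map_zero, add_zero, hQ, sub_zero, List.length_finRange] at this

omit hAB

/-- The dual vectors of a choice of `m` columns. -/
def adjB (A : Fin m → Fin n → R) (v : Fin m → Fin n) (l : Fin m) : Fin n → R :=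
  fun j => ∑ p : Fin m, if v p = j then (Matrix.of fun i q => A i (v q)).adjugate p l else 0

theorem dot_adjB (A : Fin m → Fin n → R) (v : Fin m → Fin n) (i l : Fin m) :
    dot (A i) (adjB A v l) = if i = l then (Matrix.of fun i q => A i (v q)).det else 0 := by
  have h := congrFun (congrFun (Matrix.mul_adjugate (Matrix.of fun i q => A i (v q))) i) l
  rw [Matrix.smul_apply, Matrix.one_apply, smul_eq_mul, mul_ite, mul_one, mul_zero] at h
  rw [← h, Matrix.mul_apply, dot]
  simp only [adjB, mul_sum, mul_ite, mul_zero]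
  rw [sum_comm]
  refine sum_congr rfl fun p _ => ?_
  rw [sum_ite_eq]
  simp

end Groth.Agent.CAlgH3.EN
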