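import Groth.Agent.Coherent.Devissage
import Groth.Agent.ModStalk.Exact
import Groth.Agent.AmpleLib.Generated
import Groth.Prelude.Def_CohB1

/-!
# Supports of cokernels and homology by local liftings
-/

set_option autoImplicit false
set_option backward.isDefEq.respectTransparency.types false

universe u

open CategoryTheory CategoryTheory.Limits AlgebraicGeometry Opposite TopologicalSpace
open Groth.Agent.Coherent Groth.Agent.PicLib Groth.Agent.AmpleLib

noncomputable section

namespace Groth.Agent.CAlgH3.EN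

variable {X : Scheme.{u}}

/-- A section of the target of an epimorphism lifts near every point. -/
theorem exists_local_preimage {A B : X.Modules} (φ : A ⟶ B) [Epi φ] {V : X.Opens} {y : X} (hy : y ∈ V)
    (b : Γ(B, V)) : ∃ (W : X.Opens) (h : W ≤ V), y ∈ W ∧ ∃ a, φ.app W a = resM B h b := by
  haveI : Epi ((DerSch.stalkFunctor X y).map φ) := (DerSch.stalkFunctor X y).map_epi φ
  obtain ⟨t, ht⟩ := (ModuleCat.epi_iff_surjective ((DerSch.stalkFunctor X y).map φ)).1 inferInstance
    (B.presheaf.germ V y hy b)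
  obtain ⟨U, hU, a, rfl⟩ := A.presheaf.exists_germ_eq t
  have e : B.presheaf.germ U y hU (φ.app U a) = B.presheaf.germ V y hy b :=
    (stalk_map_germ φ hU a).symm.trans ht
  obtain ⟨W, hyW, iU, iV, hW⟩ := TopCat.Presheaf.germ_eq B.presheaf y hU hy _ _ e
  exact ⟨W, leOfHom iV, hyW, resM A (leOfHom iU) a, (app_resM φ (leOfHom iU) a).trans hW⟩

theorem notMem_support_iff {M : X.Modules} {y : X} :
    y ∉ CohB1.support M ↔ ∀ (V : X.Opens) (_ : y ∈ V) (a : Γ(M, V)),
      ∃ (W : X.Opens) (h : W ≤ V), y ∈ W ∧ resM M h a = 0 := by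
  show ¬ ¬ Subsingleton (M.presheaf.stalk y) ↔ _
  rw [not_not]
  refine ⟨fun hs V hV a => ?_, fun h => subsingleton_of_forall_eq 0 fun t => ?_⟩
  · obtain ⟨W, hyW, i, i', hW⟩ := TopCat.Presheaf.germ_eq M.presheaf y hV hV a 0 (hs.elim _ _)
    exact ⟨W, leOfHom i, hyW, hW.trans (map_zero _)⟩
  · obtain ⟨V, hV, a, rfl⟩ := M.presheaf.exists_germ_eq t
    obtain ⟨W, hle, hyW, hW⟩ := h V hV a
    refine ((TopCat.Presheaf.germ_res_apply M.presheaf (homOfLE hle) y hyW a).symm.trans ?_)
    exact (congrArg (M.presheaf.germ W y hyW) hW).trans (map_zero _)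

theorem notMem_support_cokernel {A B : X.Modules} (l : A ⟶ B) {y : X}
    (h : ∀ (V : X.Opens) (_ : y ∈ V) (b : Γ(B, V)), ∃ (W : X.Opens) (hle : W ≤ V), y ∈ W ∧
      ∃ a, l.app W a = resM B hle b) : y ∉ CohB1.support (cokernel l) := by
  refine notMem_support_iff.2 fun V hV c => ?_
  obtain ⟨W, hle, hyW, b, hb⟩ := exists_local_preimage (cokernel.π l) hV c
  obtain ⟨W', hle', hyW', a, ha⟩ := h W hyW b
  refine ⟨W', hle'.trans hle, hyW', ?_⟩
  rw [← resM_resM (cokernel l) hle hle', ← hb, ← app_resM, ← ha]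
  exact ConcreteCategory.congr_hom (congrArg (fun φ => Scheme.Modules.Hom.app φ W') (cokernel.condition l)) a

theorem support_subset_of_iso {M N : X.Modules} (e : M ≅ N) : CohB1.support M ⊆ CohB1.support N := by
  intro y hy hN
  refine hy (subsingleton_of_forall_eq 0 fun t => ?_)
  obtain ⟨V, hV, a, rfl⟩ := M.presheaf.exists_germ_eq t
  obtain ⟨W, hle, hyW, hW⟩ := notMem_support_iff.1 (not_not.2 hN) V hV (e.hom.app V a)
  refine ((TopCat.Presheaf.germ_res_apply M.presheaf (homOfLE hle) y hyW a).symm.trans ?_)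
  have h : resM M hle a = 0 := by
    have := congrArg (e.inv.app W) (hW)
    rw [map_zero, ← app_resM] at this
    exact (ConcreteCategory.congr_hom (congrArg (fun φ => Scheme.Modules.Hom.app φ W) e.hom_inv_id)
      (resM M hle a)).symm.trans this
  exact (congrArg (M.presheaf.germ W y hyW) h).trans (map_zero _)

/-- Homology as a cokernel into the cycles. -/
def homologyIso (E : ChainComplex X.Modules ℕ) (s : ℕ) :
    cokernel (kernel.lift (E.d (s + 1) s) (E.d (s + 2) (s + 1)) (E.d_comp_d _ _ _)) ≅ E.homology (s + 1) :=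
  (ShortComplex.LeftHomologyData.ofHasKernelOfHasCokernel (E.sc' (s + 2) (s + 1) s)).homologyIso.symm ≪≫
    (ShortComplex.homologyMapIso (E.isoSc' (s + 2) (s + 1) s (by simp) (by simp))).symm

/-- Homology vanishes at points where cycles lift. -/
theorem notMem_support_homology (E : ChainComplex X.Modules ℕ) (s : ℕ) {y : X}
    (h : ∀ (V : X.Opens) (_ : y ∈ V) (z : Γ(E.X (s + 1), V)), (E.d (s + 1) s).app V z = 0 →
      ∃ (W : X.Opens) (hle : W ≤ V), y ∈ W ∧ ∃ a, (E.d (s + 2) (s + 1)).app W a = resM _ hle z) :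
    y ∉ CohB1.support (E.homology (s + 1)) := by
  intro hy
  refine notMem_support_cokernel _ ?_ (support_subset_of_iso (homologyIso E s).symm hy)
  intro V hV b
  obtain ⟨W, hle, hyW, a, ha⟩ := h V hV ((kernel.ι (E.d (s + 1) s)).app V b)
    (ConcreteCategory.congr_hom (congrArg (fun φ => Scheme.Modules.Hom.app φ V) (kernel.condition _)) b)
  refine ⟨W, hle, hyW, a, app_injective_of_mono (kernel.ι (E.d (s + 1) s)) _ ?_⟩
  rw [app_resM, ← ha]
  exact (ConcreteCategory.congr_hom (congrArg (fun φ => Scheme.Modules.Hom.app φ W) (kernel.lift_ι _ _ _)) a)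

end Groth.Agent.CAlgH3.EN

end
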