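import Groth.Agent.CAlgH3.EN.Sheaf
import Groth.Agent.CAlgH3.EN.Support
import Groth.Agent.AmpleLib.FTIdeal
import Groth.Agent.CurveRR24.Sky

/-!
# The augmentation of the Eagon–Northcott complex onto the ideal of maximal minors
-/

set_option autoImplicit false
set_option linter.unusedSectionVars false
set_option backward.isDefEq.respectTransparency.types false

universe u

open CategoryTheory CategoryTheory.Limits AlgebraicGeometry Opposite TopologicalSpace
open Groth.Agent.Coherent Groth.Agent.PicLib Groth.Agent.AmpleLib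

noncomputable section

namespace Groth.Agent.CAlgH3.EN

attribute [local instance] hasFiniteBiproducts

section alg

variable {R : Type*} [CommRing R] {n m : ℕ}

theorem Supp.ext {p : ℕ} {x : Fn R n} (h : Supp p x) (b : Fin n → R) : Supp (p + 1) (EN.ext b x) := fun K hK => by
  rw [ext_apply]
  refine Finset.sum_eq_zero fun j hj => ?_
  rw [h _ ?_, mul_zero]
  rw [Finset.card_erase_of_mem hj]
  have := Finset.card_pos.2 ⟨j, hj⟩
  omega

theorem supp_extL : ∀ L : List (Fin n → R), Supp L.length (extL L vac)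
  | [] => fun K hK => Pi.single_eq_of_ne (by rintro rfl; simp at hK) _
  | b :: L => (supp_extL L).ext b

/-- An element of augmentation the minor of the columns `v`. -/
def minorVec (v : Fin m → Fin n) : Tot R n m :=
  fun α => if α = 0 then extL (List.ofFn fun q => Pi.single (v q) (1 : R)) vac else 0

theorem homog_minorVec (v : Fin m → Fin n) : Homog 0 (minorVec (R := R) v) := fun α K h => by
  rw [minorVec]
  by_cases hα : α = 0
  · subst hα
    rw [if_pos rfl]
    refine supp_extL _ K ?_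
    rw [List.length_ofFn]
    simpa using h
  · rw [if_neg hα]; rfl

theorem aug_minorVec (A : Fin m → Fin n → R) (v : Fin m → Fin n) :
    aug A (minorVec v) = (Matrix.of fun i q => A i (v q)).det := by
  rw [show aug A (minorVec v) = conL (List.ofFn A) (minorVec v 0) ∅ from rfl, minorVec, if_pos rfl, conL_extL,
    Pi.smul_apply, vac, Pi.single_eq_same, smul_eq_mul, mul_one]
  simp only [dot_single]

theorem aug_add (A : Fin m → Fin n → R) (x y : Tot R n m) : aug A (x + y) = aug A x + aug A y := by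
  simp [aug]

theorem aug_smul (A : Fin m → Fin n → R) (c : R) (x : Tot R n m) : aug A (c • x) = c * aug A x := by
  simp [aug]

/-- The minors are the values of the augmentation. -/
theorem mem_span_minors_iff (A : Fin m → Fin n → R) (r : R) :
    r ∈ Ideal.span (Set.range fun v : Fin m → Fin n => (Matrix.of fun i q => A i (v q)).det) ↔
      ∃ x, Homog 0 x ∧ aug A x = r := by
  constructor
  · intro hr
    induction hr using Submodule.span_induction with
    | mem r hr =>
      obtain ⟨v, rfl⟩ := hr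
      exact ⟨_, homog_minorVec v, aug_minorVec A v⟩
    | zero => exact ⟨0, Homog.zero _, by simp [aug]⟩
    | add r s _ _ hr hs =>
      obtain ⟨x, hx, rfl⟩ := hr
      obtain ⟨y, hy, rfl⟩ := hs
      exact ⟨x + y, hx.add hy, aug_add A x y⟩
    | smul c r _ hr =>
      obtain ⟨x, hx, rfl⟩ := hr
      exact ⟨c • x, hx.smul c, aug_smul A c x⟩
  · rintro ⟨x, hx, rfl⟩
    rw [show aug A x = conL (List.ofFn A) (x 0) ∅ from rfl, conL_eq_sum _ _ (by simpa using hx.supp 0)]
    exact Ideal.sum_mem _ fun K _ => Ideal.mul_mem_left _ _ (Ideal.subset_span ⟨enum K.1 K.2, rfl⟩)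

end alg

variable {X : Scheme.{u}} {P : X.Modules} {n m : ℕ} (f : Fin m → Fin n → (P ⟶ Coh.structureModule X))

/-- `J` is the ideal of maximal minors. -/
def IsMinorIdeal (J : X.IdealSheafData) : Prop :=
  ∀ (W : X.Opens) (hW : IsAffineOpen W) (g : Γ(P, W)), IsGen P W g →
    J.ideal ⟨W, hW⟩ = Ideal.span (Set.range fun v : Fin m → Fin n => (Matrix.of fun i q => mat f g i (v q)).det)

theorem comp_cokernel_eq_zero {A B C : X.Modules} (φ : A ⟶ B) (j : C ⟶ B)
    (h : ∀ (U : X.Opens) (z : Γ(A, U)), ∀ y ∈ U, ∃ (W : X.Opens) (hle : W ≤ U), y ∈ W ∧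
      ∃ w : Γ(C, W), φ.app W (resM A hle z) = j.app W w) : φ ≫ cokernel.π j = 0 := by
  refine Scheme.Modules.hom_ext _ _ fun U => ?_
  ext z
  refine sec_ext _ _ _ fun y hy => ?_
  obtain ⟨W, hle, hyW, w, hw⟩ := h U z y hy
  refine ⟨W, hle, hyW, ?_⟩
  rw [← app_resM]
  show (cokernel.π j).app W (φ.app W (resM A hle z)) = resM (cokernel j) hle 0
  rw [hw, map_zero]
  exact ConcreteCategory.congr_hom (congrArg (fun ψ => Scheme.Modules.Hom.app ψ W) (cokernel.condition j)) w

variable {f} {J : X.IdealSheafData} (hP : PicF.IsInvertible P) (hJ : IsMinorIdeal f J)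

include hP hJ

theorem good_of_notMem {y : X} (hy : y ∉ (J.support : Set X)) : Good f y := by
  obtain ⟨V, hyV, g, hg⟩ := exists_isGen hP y
  obtain ⟨W, hW, hyW, hWV⟩ := exists_isAffineOpen_mem_and_subset (x := y) (U := V) hyV
  let g' := resM P hWV g
  have hg' : IsGen P W g' := hg.restrict hWV
  obtain ⟨v, hv⟩ : ∃ v : Fin m → Fin n, y ∈ X.basicOpen (Matrix.of fun i q => mat f g' i (v q)).det := by
    by_contra hc
    refine hy ?_
    have h2 : y ∈ X.zeroLocus (U := W) ((J.ideal ⟨W, hW⟩ : Ideal Γ(X, W)) : Set Γ(X, W)) := by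
      rw [hJ W hW g' hg', Ideal.span, Scheme.zeroLocus_span, Scheme.mem_zeroLocus_iff]
      rintro _ ⟨v, rfl⟩ hv
      exact hc ⟨v, hv⟩
    exact ((J.coe_support_inter ⟨W, hW⟩).ge ⟨h2, hyW⟩).1
  let r := (Matrix.of fun i q => mat f g' i (v q)).det
  refine ⟨X.basicOpen r, resM P (X.basicOpen_le r) g', v, hv, hg'.restrict _, ?_⟩
  have e : (Matrix.of fun i q => mat f (resM P (X.basicOpen_le r) g') i (v q)).det = res (X.basicOpen_le r) r := by
    rw [RingHom.map_det]
    congr 1
    ext i q
    exact mat_resM f _ g' i (v q)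
  rw [e]
  exact RingedSpace.isUnit_res_basicOpen X.toLocallyRingedSpace.toRingedSpace r

theorem aug_comp_cokernel : augMap f ≫ cokernel.π (ClSub.idealModι J) = 0 := by
  refine comp_cokernel_eq_zero _ _ fun U z y hy => ?_
  obtain ⟨V, hyV, g, hg⟩ := exists_isGen hP y
  obtain ⟨W, hW, hyW, hWUV⟩ := exists_isAffineOpen_mem_and_subset (x := y) (U := U ⊓ V) ⟨hy, hyV⟩
  have hWU : W ≤ U := fun x hx => (hWUV hx).1
  have hWV : W ≤ V := fun x hx => (hWUV hx).2
  obtain ⟨x, hx, hz⟩ := exists_th (s := 0) (hg.restrict hWV) (resM _ hWU z)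
  refine ⟨W, hWU, hyW, ?_⟩
  have hmem := (mem_span_minors_iff (mat f (resM P hWV g)) _).2 ⟨x, hx, rfl⟩
  rw [← hJ W hW _ (hg.restrict hWV), ← J.ker_subschemeι_app ⟨W, hW⟩, RingHom.mem_ker] at hmem
  obtain ⟨w, hw⟩ := (mem_range_idealModι J W _).2 hmem
  exact ⟨w, by rw [← hz, aug_th f _ hx]; exact hw.symm⟩

/-- The augmentation onto the ideal. -/
def augI : obj P n m 0 ⟶ ClSub.idealMod J :=
  haveI := mono_idealModι J
  Abelian.monoLift (ClSub.idealModι J) _ (aug_comp_cokernel hP hJ)

theorem augI_fac : augI hP hJ ≫ ClSub.idealModι J = augMap f :=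
  haveI := mono_idealModι J
  Abelian.monoLift_comp (ClSub.idealModι J) _ _

theorem dd_comp_augI : dd f 0 ≫ augI hP hJ = 0 := by
  haveI := mono_idealModι J
  rw [← cancel_mono (ClSub.idealModι J), Category.assoc, augI_fac hP hJ, dd_comp_augMap f hP, zero_comp]

theorem epi_augI : Epi (augI hP hJ) := epi_of_locally_surjective _ fun U a y hy => by
  haveI := mono_idealModι J
  obtain ⟨V, hyV, g, hg⟩ := exists_isGen hP y
  obtain ⟨W, hW, hyW, hWUV⟩ := exists_isAffineOpen_mem_and_subset (x := y) (U := U ⊓ V) ⟨hy, hyV⟩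
  have hWU : W ≤ U := fun x hx => (hWUV hx).1
  have hWV : W ≤ V := fun x hx => (hWUV hx).2
  have hmem : (show Γ(X, W) from (ClSub.idealModι J).app W (resM _ hWU a)) ∈ J.ideal ⟨W, hW⟩ := by
    rw [← J.ker_subschemeι_app ⟨W, hW⟩, RingHom.mem_ker]
    exact (mem_range_idealModι J W _).1 ⟨_, rfl⟩
  rw [hJ W hW _ (hg.restrict hWV), mem_span_minors_iff] at hmem
  obtain ⟨x, hx, hxa⟩ := hmem
  refine ⟨W, hWU, hyW, th 0 (resM P hWV g) x, app_injective_of_mono (ClSub.idealModι J) _ ?_⟩
  refine ((app_comp_apply _ _ W _).symm.trans ?_)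
  rw [augI_fac hP hJ, aug_th f _ hx, hxa]
  rfl

/-- Cycles of the augmentation are boundaries away from the minors. -/
theorem notMem_support_kernel {y : X} (hy : y ∉ (J.support : Set X)) :
    y ∉ CohB1.support (kernel (cokernel.desc (dd f 0) (augI hP hJ) (dd_comp_augI hP hJ))) := by
  set ψ := cokernel.desc (dd f 0) (augI hP hJ) (dd_comp_augI hP hJ) with hψ
  refine notMem_support_iff.2 fun V hV c => ?_
  obtain ⟨W, hle, hyW, z, hz⟩ := exists_local_preimage (cokernel.π (dd f 0)) hV ((kernel.ι ψ).app V c)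
  have hz0 : (augMap f).app W z = 0 := by
    rw [← augI_fac hP hJ, app_comp_apply]
    have h1 : (augI hP hJ).app W z = 0 := by
      rw [show augI hP hJ = cokernel.π (dd f 0) ≫ ψ from (cokernel.π_desc _ _ _).symm, app_comp_apply, hz, app_resM]
      have h2 : ψ.app V ((kernel.ι ψ).app V c) = 0 :=
        ConcreteCategory.congr_hom (congrArg (fun φ => Scheme.Modules.Hom.app φ V) (kernel.condition ψ)) c
      rw [h2, map_zero]
    rw [h1, map_zero]
  obtain ⟨W', hle', hyW', a, ha⟩ := exists_lift_zero f (good_of_notMem hP hJ hy) hyW z hz0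
  refine ⟨W', hle'.trans hle, hyW', app_injective_of_mono (kernel.ι ψ) _ ?_⟩
  rw [app_resM, map_zero, ← resM_resM (cokernel (dd f 0)) hle hle', ← hz, ← app_resM, ← ha]
  exact ConcreteCategory.congr_hom (congrArg (fun φ => Scheme.Modules.Hom.app φ W') (cokernel.condition (dd f 0))) a

end Groth.Agent.CAlgH3.EN

end
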