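import Groth.Agent.CAlgH3.EN.Minors
import Groth.Agent.CAlgH3.PSheafCx
import Groth.Agent.CAlgH3.PSheafPres

/-!
# Regularity of the ideal of maximal minors of a linear matrix
-/

set_option autoImplicit false
set_option linter.unusedSectionVars false
set_option backward.isDefEq.respectTransparency.types false

universe u

open CategoryTheory CategoryTheory.Limits AlgebraicGeometry Opposite TopologicalSpace
open Groth.Agent.Coherent Groth.Agent.PicLib Groth.Agent.AmpleLib
open Groth.Agent.CAlgH3.ModCohSeq Groth.Agent.CAlgH3.PSheaf Groth.Agent.CAlgH3.PSheafGen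
open Groth.Agent.CAlgH3.PSheafSeq Groth.Agent.CAlgH3.PSheafPres Groth.Agent.CAlgH3.PRing

noncomputable section

namespace Groth.Agent.CAlgH3.EN

attribute [local instance] hasFiniteBiproducts

variable {k : Type u} [Field k] {r m n : ℕ}

variable (k r) in
/-- `O(-1)`. -/
abbrev minusOne : (CohB1.ProjSpace r k).Modules := Twist.twistProjSpace r k (-1)

theorem isInvertible_minusOne : PicF.IsInvertible (minusOne k r) := isInvertible_twistProj (-1)

local notation "P₁" => minusOne k r


theorem isCoh_invertible {X : Scheme.{u}} {L : X.Modules} (hL : PicF.IsInvertible L) : Coh.IsCoh L := by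
  refine ⟨isQCoh_of_isInvertible hL, isFT_of_locallyFinGen fun x => ?_⟩
  obtain ⟨U, hx, s, hs⟩ := exists_isGen hL x
  refine ⟨U, PUnit.{u + 1}, inferInstance, fun _ => s, hx, fun W hW a y hy => ⟨W, le_rfl, hy, fun _ => hs.coef hW a, ?_⟩⟩
  rw [resM_self, Fintype.sum_unique]
  exact (hs.coef_spec hW a).symm

theorem nonempty_pow_twist (d : ℤ) (p : ℕ) :
    Nonempty (CohB1.tensorPow (Twist.twistProjSpace r k d) p ≅ Twist.twistProjSpace r k (d * p)) := by
  induction p with
  | zero =>
    obtain ⟨e⟩ := TwistLib.G.nonempty_twist_pow_iso (𝒜 := CohB1.polyGrading r k) covers 0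
    exact ⟨e.symm ≪≫ twistCompare (((0 : ℕ) : ℤ)) ≪≫ eqToIso (by simp)⟩
  | succ p ih =>
    obtain ⟨e⟩ := ih
    obtain ⟨e'⟩ := TwistLib.G.nonempty_tensor_twist_iso (𝒜 := CohB1.polyGrading r k) covers
      (show d * (p : ℤ) + d = d * ((p + 1 : ℕ) : ℤ) by push_cast; ring)
    exact ⟨tensorIso e (Iso.refl _) ≪≫ e'⟩

theorem isMRegular_obj (s : ℕ) : Curv2.IsMRegular k r (obj P₁ n m s) ((m : ℤ) + s) := by
  intro i hi hin
  obtain ⟨e⟩ := nonempty_pow_twist (k := k) (r := r) (-1) (m + s)
  obtain ⟨e'⟩ := TwistLib.G.nonempty_tensor_twist_iso (𝒜 := CohB1.polyGrading r k) covers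
    (show (-1 : ℤ) * ((m + s : ℕ) : ℤ) + ((m : ℤ) + s - i) = -(i : ℤ) by push_cast; ring)
  exact V_of_iso (twistBiproduct _ _).symm (V_biproduct i fun _ =>
    V_of_iso (tensorIso e (Iso.refl _) ≪≫ e').symm
      (subsingleton_HH_twist (n := r) (R := k) (d := -(i : ℤ)) i (by omega) (by omega)))

theorem isCoh_obj (s : ℕ) : Coh.IsCoh (obj P₁ n m s) :=
  haveI := isProper_projSpace_toSpec r k
  haveI : IsLocallyNoetherian (CohB1.ProjSpace r k) :=
    LocallyOfFiniteType.isLocallyNoetherian (CohB1.ProjSpace.toSpec r k)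
  isCoh_biproduct _ fun _ => isCoh_invertible (isInvertible_tensorPow (isInvertible_minusOne (k := k) (r := r)) (m + s))

theorem isZero_obj {X : Scheme.{u}} (P : X.Modules) {s : ℕ} (hs : n < s) : IsZero (obj P n m s) := by
  haveI : IsEmpty (Idx n m s) := ⟨fun p => by
    have h1 := p.2.2
    have h2 : p.1.2.card ≤ n := by simpa using Finset.card_le_univ p.1.2
    omega⟩
  exact (IsZero.iff_id_eq_zero _).2 (biproduct.hom_ext _ _ fun j => isEmptyElim j)

variable (f : Fin m → Fin n → ((minusOne k r : (CohB1.ProjSpace r k).Modules) ⟶ Coh.structureModule (CohB1.ProjSpace r k)))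

/-- The complex. -/
def cxGen {X : Scheme.{u}} {P : X.Modules} (g : Fin m → Fin n → (P ⟶ Coh.structureModule X))
    (hP : PicF.IsInvertible P) : ChainComplex X.Modules ℕ :=
  ChainComplex.of (fun s => obj P n m s) (fun s => dd g s) (fun s => dd_comp_dd g hP s)

theorem cxGen_d {X : Scheme.{u}} {P : X.Modules} (g : Fin m → Fin n → (P ⟶ Coh.structureModule X))
    (hP : PicF.IsInvertible P) (s : ℕ) : (cxGen g hP).d (s + 1) s = dd g s :=
  ChainComplex.of_d (fun s => obj P n m s) (fun s => dd g s) s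

/-- The complex on projective space. -/
abbrev cx : ChainComplex (CohB1.ProjSpace r k).Modules ℕ := cxGen (X := CohB1.ProjSpace r k) (P := P₁) f isInvertible_minusOne

theorem cx_d (s : ℕ) : (cx f).d (s + 1) s = dd f s := cxGen_d f _ s

theorem dim_le {X : Scheme.{u}} {S T : Set X} (h : S ⊆ T) (hT : topologicalKrullDim T ≤ 1) :
    topologicalKrullDim S ≤ 1 :=
  (Topology.IsEmbedding.inclusion h).isInducing.topologicalKrullDim_le.trans hT

/-- The ideal of maximal minors is `m`-regular when it cuts out at most a curve. -/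
theorem isMRegular_idealMod {J : (CohB1.ProjSpace r k).IdealSheafData} (hJ : IsMinorIdeal f J)
    (hdim : topologicalKrullDim (J.support : Set (CohB1.ProjSpace r k)) ≤ 1) :
    Curv2.IsMRegular k r (ClSub.idealMod J) m := by
  haveI := isProper_projSpace_toSpec r k
  haveI : IsLocallyNoetherian (CohB1.ProjSpace r k) :=
    LocallyOfFiniteType.isLocallyNoetherian (CohB1.ProjSpace.toSpec r k)
  have hP : PicF.IsInvertible P₁ := isInvertible_minusOne
  have hI : Coh.IsCoh (ClSub.idealMod J) := CurveRR24.isCoh_idealMod' J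
  have hsupp : ∀ i : ℕ, 0 < i → topologicalKrullDim (CohB1.support ((cx f).homology i)) ≤ 1 := by
    intro i hi
    obtain ⟨s, rfl⟩ : ∃ s, i = s + 1 := ⟨i - 1, by omega⟩
    refine dim_le (fun y hy => ?_) hdim
    by_contra hyJ
    refine notMem_support_homology (cx f) s (fun V hV z hz => ?_) hy
    rw [cx_d f s] at hz
    rw [cx_d f (s + 1)]
    exact exists_lift_succ f (good_of_notMem hP hJ hyJ) hV z hz
  have hQ : ∀ i : ℕ, 1 ≤ i → W (cokernel (dd f 0)) ((m : ℤ) - i) i := by
    intro i hi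
    have hbdd : ∀ s, n < s → IsZero ((cx f).X s) := fun s hs => isZero_obj P₁ hs
    have hcoh : ∀ s, Coh.IsCoh ((cx f).X s) := fun s => isCoh_obj s
    have hreg : ∀ s : ℕ, Curv2.IsMRegular k r ((cx f).X s) ((m : ℤ) + s) := fun s => isMRegular_obj s
    have key := PSheafCx.regular_images hbdd hcoh hreg hsupp n 0 (by omega) (i + 1) (by omega)
    rw [show (m : ℤ) + ((0 + 1 : ℕ) : ℤ) - ((i + 1 : ℕ) : ℤ) = (m : ℤ) - i by push_cast; ring] at key
    have := W_right (PSheafCx.shortExact_image ((cx f).d 1 0))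
      (W_of_le (hcoh 0).1 (hreg 0) hi (by omega)) key
    exact V_of_iso (tensorIso (cokernelIsoOfEq (cx_d f 0)) (Iso.refl _)) this
  intro i hi hin
  have hQc : Coh.IsCoh (cokernel (dd f 0)) := isCoh_cokernel _ (isCoh_obj 1).1 (isCoh_obj 0)
  haveI := epi_augI hP hJ
  haveI : Epi (cokernel.desc (dd f 0) (augI hP hJ) (dd_comp_augI hP hJ)) :=
    epi_of_epi_fac (cokernel.π_desc (dd f 0) (augI hP hJ) (dd_comp_augI hP hJ))
  have hS : (ShortComplex.mk (kernel.ι (cokernel.desc (dd f 0) (augI hP hJ) (dd_comp_augI hP hJ))) _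
      (kernel.condition _)).ShortExact :=
    { exact := ShortComplex.exact_kernel _ }
  refine W_right hS (hQ i hi) (W_of_support (isCoh_kernel _ hQc hI.1) (d := 1) ?_ _ (by omega))
  refine dim_le (fun y hy => ?_) hdim
  by_contra hyJ
  exact notMem_support_kernel hP hJ hyJ hy

end Groth.Agent.CAlgH3.EN

end
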