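import Groth.Agent.CAlgH3.EN.Htpy
import Groth.Agent.AmpleLib.Power
import Groth.Agent.AmpleLib.Twist
import Groth.Agent.Coherent.ProjSpaceFinite

/-!
# The Eagon–Northcott complex of a matrix of maps to the structure sheaf
-/

set_option autoImplicit false
set_option linter.unusedSectionVars false
set_option backward.isDefEq.respectTransparency.types false

universe u

open CategoryTheory CategoryTheory.Limits AlgebraicGeometry Opposite TopologicalSpace
open Groth.Agent.Coherent Groth.Agent.PicLib Groth.Agent.AmpleLib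

noncomputable section

namespace Groth.Agent.CAlgH3.EN

attribute [local instance] hasFiniteBiproducts

variable {X : Scheme.{u}} {P : X.Modules} {n m : ℕ}

theorem app_sum' {M N : X.Modules} {κ : Type} (s : Finset κ) (F : κ → (M ⟶ N)) (U : X.Opens) (x : Γ(M, U)) :
    (∑ i ∈ s, F i).app U x = ∑ i ∈ s, (F i).app U x := by
  classical
  induction s using Finset.induction with
  | empty => rw [Finset.sum_empty, Finset.sum_empty]; rfl
  | insert a s ha ih => rw [Finset.sum_insert ha, Finset.sum_insert ha, ← ih]; rfl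

/-- A function as a section of the structure sheaf. -/
def toO (U : X.Opens) : Γ(X, U) →+ Γ(Coh.structureModule X, U) := AddMonoidHom.mk' (fun r => r) fun _ _ => rfl

theorem toO_smul {U : X.Opens} (a r : Γ(X, U)) : a • toO U r = toO U (a * r) := rfl

/-- Evaluation at a section, additively in the map. -/
def evalHom {M N : X.Modules} (U : X.Opens) (x : Γ(M, U)) : (M ⟶ N) →+ Γ(N, U) :=
  AddMonoidHom.mk' (fun φ => φ.app U x) fun _ _ => rfl

theorem app_comp_apply {A B C : X.Modules} (f : A ⟶ B) (g : B ⟶ C) (U : X.Opens) (x : Γ(A, U)) :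
    (f ≫ g).app U x = g.app U (f.app U x) := rfl

/-- Multiplication by a map to the structure sheaf, in the last factor. -/
def mulMap (f : P ⟶ Coh.structureModule X) (q : ℕ) : CohB1.tensorPow P (q + 1) ⟶ CohB1.tensorPow P q :=
  tensorMap (𝟙 _) f ≫ tensorSwap _ _ ≫ (unitTensorIso _).hom

theorem mulMap_app (f : P ⟶ Coh.structureModule X) (q : ℕ) {U : X.Opens} (g : Γ(P, U)) :
    (mulMap f q).app U (powSec g (q + 1)) = (show Γ(X, U) from f.app U g) • powSec g q := by
  show (unitTensorIso (CohB1.tensorPow P q)).hom.app U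
    ((tensorSwap (CohB1.tensorPow P q) (Coh.structureModule X)).app U
      ((tensorMap (𝟙 (CohB1.tensorPow P q)) f).app U (tmul (powSec g q) g))) = _
  rw [tensorMap_tmul]
  refine (congrArg ((unitTensorIso (CohB1.tensorPow P q)).hom.app U) (Bilin.desc_tmul _ _ _ _)).trans ?_
  exact Bilin.desc_tmul (unitBilin _) U _ _

/-- The product of maps to the structure sheaf. -/
def prodMap : ∀ {q : ℕ}, (Fin q → (P ⟶ Coh.structureModule X)) → (CohB1.tensorPow P q ⟶ Coh.structureModule X)
  | 0, _ => 𝟙 _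
  | q + 1, F => mulMap (F 0) q ≫ prodMap (fun i => F i.succ)

theorem prodMap_app : ∀ {q : ℕ} (F : Fin q → (P ⟶ Coh.structureModule X)) {U : X.Opens} (g : Γ(P, U)),
    (prodMap F).app U (powSec g q) = (show Γ(Coh.structureModule X, U) from
      (∏ i, (show Γ(X, U) from (F i).app U g) : Γ(X, U)))
  | 0, F, U, g => by
    rw [Fin.prod_univ_zero]
    rfl
  | q + 1, F, U, g => by
    show (prodMap fun i => F i.succ).app U ((mulMap (F 0) q).app U (powSec g (q + 1))) = _
    rw [mulMap_app, Scheme.Modules.Hom.app_smul, prodMap_app, Fin.prod_univ_succ]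
    rfl

variable (n m) in
/-- The index set of the `s`-th term. -/
abbrev Idx (s : ℕ) : Type :=
  {p : (Fin m → Fin (s + 1)) × Finset (Fin n) // (∑ i, (p.1 i : ℕ)) = s ∧ p.2.card = m + s}

/-- The exponent of an index. -/
def al {s : ℕ} (p : Idx n m s) : Fin m → ℕ := fun i => (p.1.1 i : ℕ)

theorem sum_al {s : ℕ} (p : Idx n m s) : ∑ i, al p i = s := p.2.1

theorem idx_ext {s : ℕ} {p q : Idx n m s} (h₁ : al p = al q) (h₂ : p.1.2 = q.1.2) : p = q :=
  Subtype.ext (Prod.ext (funext fun i => Fin.ext (congrFun h₁ i)) h₂)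

theorem exists_idx {s : ℕ} {α : Fin m → ℕ} {K : Finset (Fin n)} (hα : ∑ i, α i = s) (hK : K.card = m + s) :
    ∃ p : Idx n m s, al p = α ∧ p.1.2 = K :=
  ⟨⟨(fun i => ⟨α i, Nat.lt_succ_of_le (hα ▸ Finset.single_le_sum (fun j _ => Nat.zero_le _) (Finset.mem_univ i))⟩,
    K), hα, hK⟩, rfl, rfl⟩

variable (P n m) in
/-- The terms of the complex. -/
abbrev obj (s : ℕ) : X.Modules := ⨁ fun _ : Idx n m s => CohB1.tensorPow P (m + s)

variable (f : Fin m → Fin n → (P ⟶ Coh.structureModule X))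

/-- An entry of the differential. -/
def entry (s : ℕ) (p : Idx n m (s + 1)) (q : Idx n m s) :
    CohB1.tensorPow P (m + (s + 1)) ⟶ CohB1.tensorPow P (m + s) :=
  ∑ i, ∑ j ∈ (q.1.2)ᶜ, if al p = al q + unit i ∧ p.1.2 = insert j q.1.2 then sgn j q.1.2 • mulMap (f i j) (m + s) else 0

/-- The differential. -/
def dd (s : ℕ) : obj P n m (s + 1) ⟶ obj P n m s := biproduct.matrix (entry f s)

/-- A component of the augmentation. -/
def augEntry (p : Idx n m 0) : CohB1.tensorPow P m ⟶ Coh.structureModule X :=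
  ∑ σ : Equiv.Perm (Fin m), (Equiv.Perm.sign σ : ℤ) • prodMap fun i => f (σ i) (enum p.1.2 p.2.2 i)

/-- The augmentation. -/
def augMap : obj P n m 0 ⟶ Coh.structureModule X := biproduct.desc fun p => augEntry f p

/-- The matrix in a trivialisation. -/
def mat {U : X.Opens} (g : Γ(P, U)) : Fin m → Fin n → Γ(X, U) := fun i j => (f i j).app U g

theorem app_zsmul {A B : X.Modules} (c : ℤ) (φ : A ⟶ B) {U : X.Opens} (a : Γ(A, U)) :
    (c • φ).app U a = c • φ.app U a := map_zsmul (evalHom U a) c φ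

theorem entry_app {s : ℕ} (p : Idx n m (s + 1)) (q : Idx n m s) {U : X.Opens} (g : Γ(P, U)) :
    (entry f s p q).app U (powSec g (m + (s + 1))) =
      (∑ i, ∑ j ∈ (q.1.2)ᶜ, if al p = al q + unit i ∧ p.1.2 = insert j q.1.2
        then (sgn j q.1.2 : Γ(X, U)) * mat f g i j else 0) • powSec g (m + s) := by
  rw [entry, app_sum', Finset.sum_smul]
  refine Finset.sum_congr rfl fun i _ => ?_
  rw [app_sum', Finset.sum_smul]
  refine Finset.sum_congr rfl fun j _ => ?_
  by_cases h : al p = al q + unit i ∧ p.1.2 = insert j q.1.2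
  · rw [if_pos h, if_pos h, mul_smul, Int.cast_smul_eq_zsmul]
    rw [app_zsmul]
    exact congrArg (fun t : Γ(CohB1.tensorPow P (m + s), U) => sgn j q.1.2 • t) (mulMap_app (f i j) (m + s) g)
  · rw [if_neg h, if_neg h, zero_smul]
    rfl

theorem augEntry_app (p : Idx n m 0) {U : X.Opens} (g : Γ(P, U)) :
    (augEntry f p).app U (powSec g m) = toO U (Matrix.of fun i j => mat f g i (enum p.1.2 p.2.2 j)).det := by
  rw [augEntry, app_sum', Matrix.det_apply']
  rw [map_sum]
  refine Finset.sum_congr rfl fun σ _ => ?_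
  rw [app_zsmul, prodMap_app, ← zsmul_eq_mul, map_zsmul]
  rfl

/-- A coordinate family as a section. -/
def th (s : ℕ) {U : X.Opens} (g : Γ(P, U)) (x : Tot Γ(X, U) n m) : Γ(obj P n m s, U) :=
  ∑ p : Idx n m s, (biproduct.ι (fun _ : Idx n m s => CohB1.tensorPow P (m + s)) p).app U
    (x (al p) p.1.2 • powSec g (m + s))

theorem th_zero (s : ℕ) {U : X.Opens} (g : Γ(P, U)) : th s g (0 : Tot Γ(X, U) n m) = 0 :=
  Finset.sum_eq_zero fun p _ => by
    show (biproduct.ι (fun _ : Idx n m s => CohB1.tensorPow P (m + s)) p).app U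
      ((0 : Γ(X, U)) • powSec g (m + s)) = 0
    rw [zero_smul, map_zero]

theorem th_smul (s : ℕ) {U : X.Opens} (g : Γ(P, U)) (c : Γ(X, U)) (x : Tot Γ(X, U) n m) :
    th s g (c • x) = c • th s g x := by
  rw [th, th, Finset.smul_sum]
  refine Finset.sum_congr rfl fun p _ => ?_
  rw [← Scheme.Modules.Hom.app_smul, smul_smul]
  rfl

theorem dd_th {s : ℕ} {U : X.Opens} (g : Γ(P, U)) {x : Tot Γ(X, U) n m} (hx : Homog (s + 1) x) :
    (dd f s).app U (th (s + 1) g x) = th s g (EN.d (mat f g) x) := by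
  classical
  rw [th, map_sum]
  have h1 : ∀ p : Idx n m (s + 1), (dd f s).app U ((biproduct.ι (fun _ : Idx n m (s + 1) =>
      CohB1.tensorPow P (m + (s + 1))) p).app U (x (al p) p.1.2 • powSec g (m + (s + 1)))) =
      ∑ q : Idx n m s, (biproduct.ι (fun _ : Idx n m s => CohB1.tensorPow P (m + s)) q).app U
        ((x (al p) p.1.2 * ∑ i, ∑ j ∈ (q.1.2)ᶜ, if al p = al q + unit i ∧ p.1.2 = insert j q.1.2
          then (sgn j q.1.2 : Γ(X, U)) * mat f g i j else 0) • powSec g (m + s)) := by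
    intro p
    have e : biproduct.ι (fun _ : Idx n m (s + 1) => CohB1.tensorPow P (m + (s + 1))) p ≫ dd f s =
        ∑ q, entry f s p q ≫ biproduct.ι (fun _ : Idx n m s => CohB1.tensorPow P (m + s)) q := by
      rw [dd, biproduct.ι_matrix, biproduct.lift_eq]
    refine ((app_comp_apply _ _ U _).symm.trans
      (congrArg (fun φ => Scheme.Modules.Hom.app φ U (x (al p) p.1.2 • powSec g (m + (s + 1)))) e)).trans ?_
    rw [app_sum']
    refine Finset.sum_congr rfl fun q _ => ?_
    rw [app_comp_apply, Scheme.Modules.Hom.app_smul, entry_app, smul_smul]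
  rw [Finset.sum_congr rfl fun p _ => h1 p, Finset.sum_comm, th]
  refine Finset.sum_congr rfl fun q _ => ?_
  rw [← map_sum, ← Finset.sum_smul]
  refine congrArg (fun r : Γ(X, U) => (biproduct.ι (fun _ : Idx n m s => CohB1.tensorPow P (m + s)) q).app U
    (r • powSec g (m + s))) ?_
  rw [d_apply, Finset.sum_apply]
  simp only [Finset.mul_sum]
  rw [Finset.sum_comm]
  refine Finset.sum_congr rfl fun i _ => ?_
  rw [con_apply, Finset.sum_comm]
  refine Finset.sum_congr rfl fun j hj => ?_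
  obtain ⟨p₀, hp₁, hp₂⟩ := exists_idx (n := n) (s := s + 1) (α := al q + unit i) (K := insert j q.1.2)
    (by rw [sum_add_unit, sum_al]) (by rw [Finset.card_insert_of_notMem (Finset.mem_compl.1 hj), q.2.2]; rfl)
  rw [Finset.sum_eq_single_of_mem p₀ (Finset.mem_univ _) fun p _ hp => by
    rw [if_neg fun h => hp (idx_ext (h.1.trans hp₁.symm) (h.2.trans hp₂.symm)), mul_zero],
    if_pos ⟨hp₁, hp₂⟩, hp₁, hp₂]
  ring

theorem aug_th {U : X.Opens} (g : Γ(P, U)) {x : Tot Γ(X, U) n m} (hx : Homog 0 x) :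
    (augMap f).app U (th 0 g x) = toO U (EN.aug (mat f g) x) := by
  classical
  rw [th, map_sum, show EN.aug (mat f g) x = conL (List.ofFn (mat f g)) (x 0) ∅ from rfl,
    conL_eq_sum _ _ (by simpa using hx.supp 0), map_sum]
  have hal : ∀ p : Idx n m 0, al p = 0 := fun p => funext fun i => by
    have := Finset.single_le_sum (f := al p) (fun j _ => Nat.zero_le _) (Finset.mem_univ i)
    rw [sum_al] at this
    simpa using this
  let e : Idx n m 0 ≃ {K : Finset (Fin n) // K.card = m} :=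
    { toFun := fun p => ⟨p.1.2, by simpa using p.2.2⟩
      invFun := fun K => ⟨(fun _ => 0, K.1), by simp, by simpa using K.2⟩
      left_inv := fun p => idx_ext (by rw [hal p, hal _]) rfl
      right_inv := fun K => rfl }
  have h1 : ∀ p : Idx n m 0, (augMap f).app U ((biproduct.ι (fun _ : Idx n m 0 => CohB1.tensorPow P (m + 0)) p).app U
      (x (al p) p.1.2 • powSec g (m + 0))) =
      toO U (x 0 (e p).1 * (Matrix.of fun i j => mat f g i (enum (e p).1 (e p).2 j)).det) := by
    intro p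
    refine ((app_comp_apply _ _ U _).symm.trans (congrArg (fun φ => Scheme.Modules.Hom.app φ U
      (x (al p) p.1.2 • powSec g (m + 0))) (biproduct.ι_desc (fun p => augEntry f p) p))).trans ?_
    rw [Scheme.Modules.Hom.app_smul, hal p]
    exact (congrArg (x 0 p.1.2 • ·) (augEntry_app f p g)).trans (toO_smul _ _)
  rw [Finset.sum_congr rfl fun p _ => h1 p]
  exact e.sum_comp fun K => toO U (x 0 K.1 * (Matrix.of fun i j => mat f g i (enum K.1 K.2 j)).det)

theorem exists_th {s : ℕ} {U : X.Opens} {g : Γ(P, U)} (hg : IsGen P U g) (z : Γ(obj P n m s, U)) :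
    ∃ x : Tot Γ(X, U) n m, Homog s x ∧ th s g x = z := by
  classical
  have hc : ∀ p : Idx n m s, ∃ c : Γ(X, U), c • powSec g (m + s) =
      (biproduct.π (fun _ : Idx n m s => CohB1.tensorPow P (m + s)) p).app U z := fun p => by
    obtain ⟨c, hc⟩ := (isGen_powSec hg (m + s) U le_rfl).2
      ((biproduct.π (fun _ : Idx n m s => CohB1.tensorPow P (m + s)) p).app U z)
    exact ⟨c, by simpa only [resM_self] using hc⟩
  choose c hc using hc
  refine ⟨fun α K => ∑ p : Idx n m s, if al p = α ∧ p.1.2 = K then c p else 0, fun α K h => ?_, ?_⟩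
  · refine Finset.sum_eq_zero fun p _ => if_neg fun hp => ?_
    rcases h with h | h
    · exact h (hp.1 ▸ sum_al p)
    · exact h (hp.2 ▸ p.2.2)
  · conv_rhs => rw [← biproduct_sections_total (fun _ : Idx n m s => CohB1.tensorPow P (m + s)) U z]
    refine Finset.sum_congr rfl fun p _ => congrArg _ ?_
    rw [← hc p]
    refine congrArg (· • powSec g (m + s)) ?_
    show (∑ p' : Idx n m s, if al p' = al p ∧ p'.1.2 = p.1.2 then c p' else 0) = c p
    rw [Finset.sum_eq_single_of_mem p (Finset.mem_univ p) fun p' _ hp' => if_neg fun h => hp' (idx_ext h.1 h.2),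
      if_pos ⟨rfl, rfl⟩]

theorem th_injective {s : ℕ} {U : X.Opens} {g : Γ(P, U)} (hg : IsGen P U g) {x : Tot Γ(X, U) n m}
    (hx : Homog s x) (h : th s g x = 0) : x = 0 := by
  classical
  funext α K
  by_cases hd : ∑ i, α i ≠ s ∨ K.card ≠ m + s
  · exact hx α K hd
  · obtain ⟨h1, h2⟩ := not_or.1 hd
    obtain ⟨p, rfl, rfl⟩ := exists_idx (n := n) (not_not.1 h1) (not_not.1 h2)
    refine (isGen_powSec hg (m + s) U le_rfl).1 ?_
    show x (al p) p.1.2 • resM _ le_rfl (powSec g (m + s)) = (0 : Γ(X, U)) • resM _ le_rfl (powSec g (m + s))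
    rw [resM_self, zero_smul]
    have := congrArg ((biproduct.π (fun _ : Idx n m s => CohB1.tensorPow P (m + s)) p).app U) h
    rw [th, map_sum, map_zero, Finset.sum_eq_single_of_mem p (Finset.mem_univ p) fun p' _ hp' => by
      refine (app_comp_apply _ _ U _).symm.trans ?_
      rw [biproduct.ι_π_ne _ hp']
      rfl] at this
    refine Eq.trans ?_ this
    refine Eq.trans ?_ (app_comp_apply _ _ U _)
    rw [biproduct.ι_π_self]
    rfl

/-- The complex squares to zero. -/
theorem dd_comp_dd (hP : PicF.IsInvertible P) (s : ℕ) : dd f (s + 1) ≫ dd f s = 0 := by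
  refine Scheme.Modules.hom_ext _ _ fun U => ?_
  ext z
  refine sec_ext _ _ _ fun y hy => ?_
  obtain ⟨V, hyV, g, hg⟩ := exists_isGen hP y
  refine ⟨U ⊓ V, inf_le_left, ⟨hy, hyV⟩, ?_⟩
  obtain ⟨x, hx, hz⟩ := exists_th (s := s + 1 + 1) (hg.restrict (inf_le_right : U ⊓ V ≤ V)) (resM _ inf_le_left z)
  rw [← app_resM, app_comp_apply, ← hz, dd_th f _ hx, dd_th f _ hx.d, d_d, th_zero]
  exact (map_zero _).symm

/-- The augmentation kills boundaries. -/
theorem dd_comp_augMap (hP : PicF.IsInvertible P) : dd f 0 ≫ augMap f = 0 := by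
  refine Scheme.Modules.hom_ext _ _ fun U => ?_
  ext z
  refine sec_ext _ _ _ fun y hy => ?_
  obtain ⟨V, hyV, g, hg⟩ := exists_isGen hP y
  refine ⟨U ⊓ V, inf_le_left, ⟨hy, hyV⟩, ?_⟩
  obtain ⟨x, hx, hz⟩ := exists_th (s := 1) (hg.restrict (inf_le_right : U ⊓ V ≤ V)) (resM _ inf_le_left z)
  rw [← app_resM, app_comp_apply, ← hz, dd_th f _ hx, aug_th f _ hx.d, EN.aug_d]
  exact (map_zero _).symm

/-- The maximal minors are invertible near `y`. -/
def Good (y : X) : Prop :=
  ∃ (U : X.Opens) (g : Γ(P, U)) (v : Fin m → Fin n), y ∈ U ∧ IsGen P U g ∧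
    IsUnit (Matrix.of fun i q => mat f g i (v q)).det

theorem mat_resM {U W : X.Opens} (h : W ≤ U) (g : Γ(P, U)) (i : Fin m) (j : Fin n) :
    mat f (resM P h g) i j = res h (mat f g i j) := app_resM (f i j) h g

theorem isUnit_det_resM {U W : X.Opens} (h : W ≤ U) (g : Γ(P, U)) (v : Fin m → Fin n)
    (hu : IsUnit (Matrix.of fun i q => mat f g i (v q)).det) :
    IsUnit (Matrix.of fun i q => mat f (resM P h g) i (v q)).det := by
  have e : (Matrix.of fun i q => mat f (resM P h g) i (v q)).det = res h (Matrix.of fun i q => mat f g i (v q)).det := by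
    rw [RingHom.map_det]
    congr 1
    ext i q
    exact mat_resM f h g i (v q)
  rw [e]
  exact hu.map _

theorem exists_lift_of {y : X} (hy : Good f y) {V : X.Opens} (hyV : y ∈ V) {s : ℕ} (z : Γ(obj P n m s, V))
    (h : ∀ (W : X.Opens) (hle : W ≤ V) (g : Γ(P, W)), IsGen P W g → ∀ x : Tot Γ(X, W) n m, Homog s x →
      th s g x = resM _ hle z → EN.d (mat f g) x = 0 ∧ (s = 0 → EN.aug (mat f g) x = 0)) :
    ∃ (W : X.Opens) (hle : W ≤ V), y ∈ W ∧ ∃ a, (dd f s).app W a = resM _ hle z := by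
  obtain ⟨U, g, v, hyU, hg, hu⟩ := hy
  refine ⟨V ⊓ U, inf_le_left, ⟨hyV, hyU⟩, ?_⟩
  let g' := resM P (inf_le_right : V ⊓ U ≤ U) g
  have hg' : IsGen P (V ⊓ U) g' := hg.restrict inf_le_right
  obtain ⟨x, hx, hz⟩ := exists_th hg' (resM _ inf_le_left z)
  obtain ⟨hd, ha⟩ := h _ inf_le_left g' hg' x hx hz
  obtain ⟨x', hx', he⟩ := exists_d_eq (dot_adjB (mat f g') v) hx hd ha
  obtain ⟨c, hc⟩ := ((isUnit_det_resM f (inf_le_right : V ⊓ U ≤ U) g v hu).pow m).exists_left_inv
  refine ⟨th (s + 1) g' (c • x'), ?_⟩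
  rw [dd_th f g' (hx'.smul c), map_smul, he, smul_smul, hc, one_smul, hz]

/-- Cycles lift at good points. -/
theorem exists_lift_succ {y : X} (hy : Good f y) {V : X.Opens} (hyV : y ∈ V) {s : ℕ}
    (z : Γ(obj P n m (s + 1), V)) (h0 : (dd f s).app V z = 0) :
    ∃ (W : X.Opens) (hle : W ≤ V), y ∈ W ∧ ∃ a, (dd f (s + 1)).app W a = resM _ hle z := by
  refine exists_lift_of f hy hyV z fun W hle g hg x hx hz => ⟨th_injective hg hx.d ?_, fun h => absurd h (by omega)⟩
  rw [← dd_th f g hx, hz, app_resM, h0, map_zero]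

/-- The kernel of the augmentation consists of boundaries at good points. -/
theorem exists_lift_zero {y : X} (hy : Good f y) {V : X.Opens} (hyV : y ∈ V)
    (z : Γ(obj P n m 0, V)) (h0 : (augMap f).app V z = 0) :
    ∃ (W : X.Opens) (hle : W ≤ V), y ∈ W ∧ ∃ a, (dd f 0).app W a = resM _ hle z := by
  refine exists_lift_of f hy hyV z fun W hle g hg x hx hz => ⟨?_, fun _ => ?_⟩
  · funext α K
    rw [d_apply, Finset.sum_apply]
    refine Finset.sum_eq_zero fun i _ => ?_
    rw [con_apply]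
    refine Finset.sum_eq_zero fun j _ => ?_
    rw [hx _ _ (Or.inl (by rw [sum_add_unit]; omega)), mul_zero]
  · have h : toO W (EN.aug (mat f g) x) = 0 := by
      rw [← aug_th f g hx, hz, app_resM, h0, map_zero]
    exact h

end Groth.Agent.CAlgH3.EN

end
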